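import Cfsg.Agent.Lib.TC.D.HNL.Main
import Cfsg.Agent.Lib.TC.D.HNC.X
import Cfsg.Agent.Lib.TC.D.HNO.OrbD
import Cfsg.Agent.Lib.TC.Iso

/-!
# The presented group is simple of the right order
-/

namespace Cfsg.Agent.Lib.TC.D.HNL.Simple

open Cfsg.Agent.Lib.TC.Core Cfsg.Agent.Lib.TC.Enc Cfsg.Agent.Lib.TC.Pres Cfsg.Agent.Lib.TC.Perm
  Cfsg.Agent.Lib.TC.Main Cfsg.Agent.Lib.TC.Chain Cfsg.Agent.Lib.TC.Chain.PermLev
  Cfsg.Agent.Lib.TC.Iso
  Cfsg.Agent.Lib.TC.G.HN Cfsg.Agent.Lib.TC.HNA Cfsg.Agent.Lib.TC.D.HNO.Tab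
  Cfsg.Agent.Lib.TC.D.HND.Sys Cfsg.Agent.Lib.TC.D.HNL.Defs Cfsg.Agent.Lib.TC.D.HNL.Lam
  Cfsg.Agent.Lib.TC.D.HNL.Kt Cfsg.Agent.Lib.TC.D.HNC.Ord Cfsg.Agent.Lib.TC.D.HNL.Main
  Cfsg.Agent.Lib.TC.D.HNO.OrbD Cfsg.Agent.Lib.TC.D.HNC

set_option maxRecDepth 100000

/-- The orbits of a subgroup on the points, from a labelling. -/
theorem orbit_facts' {Γ : Type*} [Group Γ] {P : PT} (φ : Γ →* Equiv.Perm (Fin P.n)) (E : Nat → Γ)
    (L : Subgroup Γ) (subs : List (List Nat))
    (hval : ∀ l ∈ subs, ∀ i : Fin P.n, (φ (prodA E l) i).1 = P.val l i.1)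
    (hL : ∀ l ∈ subs, prodA E l ∈ L) (lab oP oW oD repr : Nat → Nat)
    (hlab : P.orbRange subs lab oP oW oD repr 0 P.n = true) :
    ∀ i j : Fin P.n, lab i.1 = lab j.1 → ∃ g ∈ L, φ g i = j := by
  have hok : ∀ i, i < P.n → P.orbOK subs lab oP oW oD repr i = true := fun i hi =>
    P.orbOK_of_range hlab i (by omega) (by omega)
  have hspec : ∀ i : Fin P.n,
      ((oP i.1 = i.1 ∧ repr (lab i.1) = i.1) ∨
        (oP i.1 < P.n ∧ oD (oP i.1) < oD i.1 ∧ lab (oP i.1) = lab i.1 ∧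
          P.val (subs.getD (oW i.1) []) (oP i.1) = i.1)) := by
    intro i
    have hi := hok i.1 i.2
    rw [PT.orbOK, force_eq, andB_eq_true, force_eq] at hi
    obtain ⟨_, h2⟩ := hi
    cases hb : Nat.beq (oP i.1) i.1 with
    | true =>
      rw [hb] at h2
      exact Or.inl ⟨Nat.eq_of_beq_eq_true hb, Nat.eq_of_beq_eq_true h2⟩
    | false =>
      rw [hb] at h2
      simp only [andB_eq_true] at h2
      obtain ⟨h0, h3, h4, h5⟩ := h2
      rw [PT.walk_eq] at h5
      exact Or.inr ⟨Nat.le_of_ble_eq_true h0, Nat.le_of_ble_eq_true h3, Nat.eq_of_beq_eq_true h4,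
        Nat.eq_of_beq_eq_true h5⟩
  have key : ∀ d m, oD m = d → ∀ hm : m < P.n, ∃ r, ∃ hr : r < P.n, repr (lab m) = r ∧
      ∃ g ∈ L, φ g ⟨r, hr⟩ = ⟨m, hm⟩ := by
    intro d
    induction d using Nat.strong_induction_on with
    | _ d ih =>
      intro m hd hm
      rcases hspec ⟨m, hm⟩ with ⟨_, h3⟩ | ⟨hoPn, h3, h4, h5⟩
      · refine ⟨m, hm, h3, 1, Subgroup.one_mem _, ?_⟩
        rw [map_one]
        rfl
      · have hoPn' : oP m < P.n := hoPn
        have h3' : oD (oP m) < oD m := h3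
        have h4' : lab (oP m) = lab m := h4
        have h5' : P.val (subs.getD (oW m) []) (oP m) = m := h5
        have hmem : subs.getD (oW m) [] ∈ subs := by
          by_cases hi : oW m < subs.length
          · rw [List.getD_eq_getElem _ _ hi]
            exact List.getElem_mem hi
          · rw [List.getD_eq_default _ _ (by omega)] at h5'
            have : oP m = m := h5'
            rw [this] at h3'
            omega
        obtain ⟨r, hr, h6, g, hg, e⟩ := ih _ (by omega) (oP m) rfl hoPn'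
        refine ⟨r, hr, by rw [← h4', h6], prodA E (subs.getD (oW m) []) * g,
          Subgroup.mul_mem _ (hL _ hmem) hg, ?_⟩
        rw [map_mul, Equiv.Perm.mul_apply, e]
        apply Fin.ext
        rw [hval _ hmem]
        exact h5'
  intro i j hij
  obtain ⟨r, hr, h1, g, hg, e⟩ := key _ i.1 rfl i.2
  obtain ⟨r', hr', h2, g', hg', e'⟩ := key _ j.1 rfl j.2
  have hrr : r = r' := by rw [← h1, ← h2, hij]
  subst hrr
  refine ⟨g' * g⁻¹, Subgroup.mul_mem _ hg' (Subgroup.inv_mem _ hg), ?_⟩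
  rw [map_mul, Equiv.Perm.mul_apply, map_inv]
  have e2 : (φ g)⁻¹ i = ⟨r, hr⟩ := by
    rw [Equiv.Perm.inv_eq_iff_eq]
    exact e.symm
  rw [e2, e']

theorem hlev0 : levsOK pt [0] C0.cl.levs = true := by decide +kernel

theorem hprod0 : prodM C0.cl.levs = 177408000 := by decide +kernel

theorem hfix19 : fixAll pt (allBase [0] C0.cl.levs) X_Tab.xwp = true := by decide +kernel

theorem hxm : pt.val X_Tab.xw 0 ≠ 0 := by decide +kernel

theorem hnum : ∀ S ∈ (Finset.range (8 + 1)).powerset, 0 ∈ S → (∑ ℓ ∈ S, size ℓ) ∣ pt.n →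
      (∑ ℓ ∈ S, size ℓ) = 1 ∨ (∑ ℓ ∈ S, size ℓ) = pt.n :=
  hnum_of_chk size 8 pt.n (by decide) (by decide) (by decide +kernel)

/-- The simplicity and the order. -/
theorem simple_card (hgood : pt.Good rels)
    (h3 : Nat.card KK ≠ 0 ∧ Nat.card KK ≤ 3 * 177408000)
    (h1 : cc * cc = 1 → Nat.card KK ≠ 0 ∧ Nat.card KK ≤ 177408000)
    (hlab : pt.orbRange subs lab oP oW oD repr 0 pt.n = true)
    (hb : allBelow lab 9 pt.n = true)
    (hsize : ∀ ℓ, ℓ < 9 → countAcc lab ℓ 0 pt.n 0 = size ℓ) :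
    IsSimpleGroup (PresentedGroup Rel) ∧ Nat.card (PresentedGroup Rel) = 273030912000000 := by
  have hk : pt.k = K.k := by decide
  obtain ⟨φ, hφ⟩ := exists_hom valid hk (fun _ => rfl) hgood hR
  have hval : ∀ l : List Nat, (∀ z ∈ l, z < pt.k) → ∀ i : Fin pt.n, (φ (prodA e l) i).1 = pt.val l i.1 :=
    fun l hl i => phi_prodA_apply hk hgood φ hφ l (fun z hz => by rw [← hk]; exact hl z hz) i
  have hK := h1 (hcc φ hval h3)
  have hfK : Finite KK := Nat.finite_of_card_ne_zero hK.1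
  have hidx := main_index hgood h3 h1
  have hS : ∀ lv ∈ C0.cl.levs, ∀ w ∈ lv.words, prodA e w ∈ KK := fun lv hlv w hw =>
    word_mem w (stOK_wLt (cl_words C0.hchk lv hlv w hw))
  have hlow := prodM_le_card hval KK C0.cl.levs C0.hlev hS
  rw [hprod0] at hlow
  have hcK : Nat.card KK = 177408000 := le_antisymm hK.2 hlow
  have hcG : Nat.card (PresentedGroup Rel) = 273030912000000 := by
    have h4 := Subgroup.index_mul_card KK
    rw [hidx, hcK] at h4
    rw [← h4]
  have hG0 : Nat.card (PresentedGroup Rel) ≠ 0 := by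
    rw [hcG]
    norm_num
  have hfin : Finite (PresentedGroup Rel) := Nat.finite_of_card_ne_zero hG0
  have hnt : Nontrivial (PresentedGroup Rel) := by
    rw [← Finite.one_lt_card_iff_nontrivial, hcG]
    norm_num
  have htr : ∀ i : Fin pt.n, ∃ g, φ g 0 = i := by
    intro i
    obtain ⟨l, hl, hv⟩ := hgood.trans i.1 i.2
    refine ⟨prodA e l, Fin.ext ?_⟩
    rw [hval l hl]
    exact hv
  have hr := card_range_ge hval htr C0.cl.levs hlev0
  rw [hprod0] at hr
  have hN : (273030912000000 : Nat) ≤ pt.n * 177408000 := by decide +kernel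
  obtain ⟨_, hinj⟩ := card_eq_of_bounds φ hG0 (le_of_eq hcG) (le_trans hN hr)
  have hx19 : (prodA e X_Tab.xw) ^ 19 = 1 := by
    have e19 : (prodA e X_Tab.xw) ^ 19 = prodA e X_Tab.xwp := by
      rw [← X_Tab.hxwp]
      generalize 19 = q
      induction q with
      | zero => simp
      | succ q ih =>
        rw [pow_succ, ih, List.replicate_succ, List.flatten_cons, prodA_append]
    rw [e19]
    apply hinj
    rw [map_one]
    have hle : Nat.card φ.range ≤ pt.n * prodM C0.cl.levs := by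
      have h5 := Nat.card_le_card_of_surjective _ φ.rangeRestrict_surjective
      rw [hcG] at h5
      rw [hprod0]
      exact le_trans h5 hN
    apply eq_one_of_fix_base (E := e) hval C0.cl.levs hlev0 hfin hle (by decide) htr _ ⟨_, rfl⟩
    intro b hb'
    apply Fin.ext
    have hz : ∀ z ∈ X_Tab.xwp, z < pt.k := by decide +kernel
    rw [hval _ hz b]
    exact fixAll_spec hfix19 b.1 hb'
  have hxne : prodA e X_Tab.xw ≠ 1 := by
    intro he
    have hz : ∀ z ∈ X_Tab.xw, z < pt.k := by decide +kernel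
    have h5 := hval X_Tab.xw hz 0
    rw [he, map_one] at h5
    exact hxm h5.symm
  have hord : orderOf (prodA e X_Tab.xw) = 19 := by
    have : Fact (Nat.Prime 19) := ⟨by norm_num⟩
    exact orderOf_eq_prime hx19 hxne
  have hconn := orbit_facts' φ e KK subs (fun l hl i => by
      have hl5 : ∀ z ∈ l, z < 5 := by
        have : ∀ l ∈ subs, ∀ z ∈ l, z < 5 := by decide
        exact this l hl
      exact hval5 φ hval l hl5 i)
    (fun l hl => by
      have hl5 : ∀ z ∈ l, z < 5 := by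
        have : ∀ l ∈ subs, ∀ z ∈ l, z < 5 := by decide
        exact this l hl
      exact word_mem l hl5) lab oP oW oD repr hlab
  refine ⟨?_, hcG⟩
  refine isSimple_of_data φ hinj htr KK (fun g hg => fix_zero φ hval g hg) (fun i => lab i.1)
    hconn 9 (fun i => allBelow_spec hb i.1 i.2) (by decide +kernel) size ?_ hnum
    19 (by norm_num) (by decide) (prodA e X_Tab.xw) hord ?_ X.hcl
  · intro ℓ hℓ
    rw [← hsize ℓ hℓ]
    exact ncard_label lab pt.n ℓ
  · rw [hcG]
    exact factorization_eq_one (by norm_num) (by norm_num) (by norm_num) (by norm_num)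

end Cfsg.Agent.Lib.TC.D.HNL.Simple
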