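import Cfsg.Agent.Lib.TC.D.HND.All
import Cfsg.Agent.Lib.TC.HN.Ord

/-!
# The classes of double cosets
-/

namespace Cfsg.Agent.Lib.TC.D.HNL.Defs

open Cfsg.Agent.Lib.TC.Core Cfsg.Agent.Lib.TC.Enc Cfsg.Agent.Lib.TC.Perm Cfsg.Agent.Lib.TC.Chain
  Cfsg.Agent.Lib.TC.Chain.PermLev Cfsg.Agent.Lib.TC.HNA Cfsg.Agent.Lib.TC.D.HND.Sys
  Cfsg.Agent.Lib.TC.D.HND.All
open Cfsg.Agent.Lib.PermComp.Core (bit setBit bit_setBit)

set_option maxRecDepth 100000

/-- The data of a class of double cosets. -/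
structure Cl where
  /-- the tuple -/
  W : List Nat
  /-- the size of the class -/
  size : Nat
  /-- the levels of a chain of stabilizers -/
  levs : List Lev
  /-- the words of the first level -/
  gens : List (List Nat)
  /-- the letters from which all letters are reached -/
  roots : List Nat
  /-- the tree -/
  tr : List (Nat × Nat × Nat)
  /-- the edges: root, class and word -/
  edg : List (Nat × Nat × List Nat)

/-- The tuples of the classes. -/
def Wd (k : Nat) : List Nat :=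
  ([[],[0],[0,27],[0,5],[0,99],[0,6],[0,5,7],[0,5,7,24],[0,27,21]] : List (List Nat)).getD k []

/-- The bit mask of a list. -/
def maskOf : List Nat → Nat
  | [] => 0
  | r :: l => setBit (maskOf l) r

theorem bit_maskOf {l : List Nat} {i : Nat} (h : bit (maskOf l) i = true) : i ∈ l := by
  induction l with
  | nil =>
    rw [maskOf, bit_zero] at h
    exact absurd h (by simp)
  | cons r l ih =>
    rw [maskOf, bit_setBit] at h
    rcases h with h | h
    · exact List.mem_cons_of_mem _ (ih h)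
    · simp [h]

/-- A word of the stabilizer. -/
noncomputable def stOK (W w : List Nat) : Bool :=
  wLt w && lit.any (fun x => decide (x = (W.map (ptL.val w), W)))

/-- An edge. -/
noncomputable def edOK (W : List Nat) (r : Nat) (e : Nat × Nat × List Nat) : Bool :=
  Nat.beq e.1 r && Nat.blt e.2.1 9 && wLt e.2.2 &&
    lit.any (fun x => decide (x = (W ++ [r], (Wd e.2.1).map (ptL.val e.2.2))))

/-- The cover of the letters. -/
noncomputable def covOK (c : Cl) : Bool :=
  allLt c.roots && levGo ptL c.gens c.tr (maskOf c.roots) &&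
    (List.range 1408).all fun a => c.roots.contains a || c.tr.any fun x => Nat.beq x.1 a

/-- All the checks of a class but the levels. -/
noncomputable def chkCl (c : Cl) : Bool :=
  (c.levs.all fun lv => lv.words.all (stOK c.W)) && c.gens.all (stOK c.W) &&
    (c.roots.all fun r => c.edg.any (edOK c.W r)) && covOK c

theorem allLt_iff {A : List Nat} : allLt A = true ↔ ∀ a ∈ A, a < 1408 := by
  simp only [allLt, List.all_eq_true]
  constructor
  · intro h a ha
    exact Nat.le_of_ble_eq_true (h a ha)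
  · intro h a ha
    exact Nat.ble_eq_true_of_le (h a ha)

section ctx

variable {G : Type*} [Group G]

/-- The statements about tuples. -/
def Fd (K : Subgroup G) (ℓ : Nat → G) (A B : List Nat) : Prop :=
  allLt A = true ∧ allLt B = true ∧ tup ℓ A * (tup ℓ B)⁻¹ ∈ K

/-- The properties of the letters. -/
structure LetCtx (K : Subgroup G) (E ℓ : Nat → G) : Prop where
  hE : ∀ c, c < 5 → E c ∈ K
  hval : ∀ w : List Nat, (∀ z ∈ w, z < 5) → ∀ i, i < 1408 →
    ptL.val w i < 1408 ∧ ℓ (ptL.val w i) = prodA E w * ℓ i * (prodA E w)⁻¹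
  hz2 : E 4 * E 4 = 1
  hrel0 : ℓ 0 * ℓ q0 = E 4 * ℓ (pw 4)
  hq0 : q0 < 1408
  hpw : ∀ a, 1 ≤ a → a ≤ 4 → pw a < 1408
  hpow : ∀ a b, 1 ≤ a → a ≤ 4 → 1 ≤ b → b ≤ 4 → ℓ (pw a) * ℓ (pw b) = tup ℓ (pwr (a + b))
  hpwr : ∀ a b, 1 ≤ a → a ≤ 4 → 1 ≤ b → b ≤ 4 → allLt (pwr (a + b)) = true
  hconj : ∀ h ∈ K, ∃ a, a < 1408 ∧ h * ℓ 0 * h⁻¹ = ℓ a

variable {K : Subgroup G} {E ℓ : Nat → G} (h : LetCtx K E ℓ)

include h

theorem LetCtx.prodA_mem (w : List Nat) (hw : ∀ z ∈ w, z < 5) : prodA E w ∈ K := by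
  induction w with
  | nil => exact K.one_mem
  | cons z w ih =>
    rw [prodA_cons]
    exact K.mul_mem (ih fun y hy => hw y (by simp [hy])) (h.hE z (hw z (by simp)))

theorem LetCtx.tup_val (w : List Nat) (hw : ∀ z ∈ w, z < 5) (A : List Nat) (hA : allLt A = true) :
    allLt (A.map (ptL.val w)) = true ∧
      tup ℓ (A.map (ptL.val w)) = prodA E w * tup ℓ A * (prodA E w)⁻¹ := by
  have hA' := allLt_iff.1 hA
  constructor
  · apply allLt_iff.2
    intro a ha
    obtain ⟨b, hb, rfl⟩ := List.mem_map.1 ha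
    exact (h.hval w hw b (hA' b hb)).1
  · exact tup_map ℓ _ _ A (fun a ha => (h.hval w hw a (hA' a ha)).2)

theorem LetCtx.sys : Sys (Fd K ℓ) where
  refl A hA := ⟨hA, hA, by simp [K.one_mem]⟩
  symm := by
    rintro A B ⟨h1, h2, h3⟩
    refine ⟨h2, h1, ?_⟩
    have := K.inv_mem h3
    simpa using this
  trans := by
    rintro A B C ⟨h1, h2, h3⟩ ⟨h4, h5, h6⟩
    refine ⟨h1, h5, ?_⟩
    have := K.mul_mem h3 h6
    simpa [mul_assoc] using this
  app := by
    rintro A B c hc ⟨h1, h2, h3⟩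
    have hall : ∀ X : List Nat, allLt X = true → allLt (X ++ [c]) = true := by
      intro X hX
      apply allLt_iff.2
      intro a ha
      rcases List.mem_append.1 ha with ha | ha
      · exact allLt_iff.1 hX a ha
      · simp only [List.mem_singleton] at ha
        rw [ha]
        exact hc
    refine ⟨hall _ h1, hall _ h2, ?_⟩
    rw [tup_append, tup_append]
    have e : tup ℓ A * tup ℓ [c] * (tup ℓ B * tup ℓ [c])⁻¹ = tup ℓ A * (tup ℓ B)⁻¹ := by group
    rw [e]
    exact h3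
  map := by
    rintro A B w hw ⟨h1, h2, h3⟩
    obtain ⟨h4, h5⟩ := h.tup_val w hw A h1
    obtain ⟨h6, h7⟩ := h.tup_val w hw B h2
    refine ⟨h4, h6, ?_⟩
    rw [h5, h7]
    have hm := h.prodA_mem w hw
    have e : prodA E w * tup ℓ A * (prodA E w)⁻¹ * (prodA E w * tup ℓ B * (prodA E w)⁻¹)⁻¹ =
        prodA E w * (tup ℓ A * (tup ℓ B)⁻¹) * (prodA E w)⁻¹ := by group
    rw [e]
    exact K.mul_mem (K.mul_mem hm h3) (K.inv_mem hm)
  rel0 := by
    intro P hP
    have hw : ∀ z ∈ ([4] : List Nat), z < 5 := by simp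
    obtain ⟨h4, h5⟩ := h.tup_val [4] hw P hP
    have hP' := allLt_iff.1 hP
    refine ⟨?_, ?_, ?_⟩
    · apply allLt_iff.2
      intro a ha
      rcases List.mem_append.1 ha with ha | ha
      · exact hP' a ha
      · simp only [List.mem_cons, List.not_mem_nil, or_false] at ha
        rcases ha with rfl | rfl
        · norm_num
        · exact h.hq0
    · apply allLt_iff.2
      intro a ha
      rcases List.mem_append.1 ha with ha | ha
      · exact allLt_iff.1 h4 a ha
      · simp only [List.mem_singleton] at ha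
        rw [ha]
        exact h.hpw 4 (by norm_num) (by norm_num)
    · rw [tup_append, tup_append, h5]
      have e1 : tup ℓ [0, q0] = E 4 * ℓ (pw 4) := by
        rw [tup_cons, tup_cons, tup_nil, mul_one]
        exact h.hrel0
      have e2 : tup ℓ [pw 4] = ℓ (pw 4) := by
        rw [tup_cons, tup_nil, mul_one]
      rw [e1, e2]
      have hz : prodA E [4] = E 4 := by simp
      rw [hz]
      have hzi : (E 4)⁻¹ = E 4 := inv_eq_of_mul_eq_one_left h.hz2
      have e3 : tup ℓ P * (E 4 * ℓ (pw 4)) * (E 4 * tup ℓ P * (E 4)⁻¹ * ℓ (pw 4))⁻¹ = (E 4)⁻¹ := by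
        have : tup ℓ P * (E 4 * ℓ (pw 4)) * (E 4 * tup ℓ P * (E 4)⁻¹ * ℓ (pw 4))⁻¹ =
            tup ℓ P * (E 4 * E 4) * (tup ℓ P)⁻¹ * (E 4)⁻¹ := by group
        rw [this, h.hz2]
        simp
      rw [e3]
      exact K.inv_mem (h.hE 4 (by norm_num))
  pw0 := by
    intro P a b hP h1 h2 h3 h4
    have hP' := allLt_iff.1 hP
    refine ⟨?_, ?_, ?_⟩
    · apply allLt_iff.2
      intro x hx
      rcases List.mem_append.1 hx with hx | hx
      · exact hP' x hx
      · simp only [List.mem_cons, List.not_mem_nil, or_false] at hx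
        rcases hx with rfl | rfl
        · exact h.hpw a h1 h2
        · exact h.hpw b h3 h4
    · apply allLt_iff.2
      intro x hx
      rcases List.mem_append.1 hx with hx | hx
      · exact hP' x hx
      · exact allLt_iff.1 (h.hpwr a b h1 h2 h3 h4) x hx
    · rw [tup_append, tup_append]
      have e1 : tup ℓ [pw a, pw b] = tup ℓ (pwr (a + b)) := by
        rw [tup_cons, tup_cons, tup_nil, mul_one]
        exact h.hpow a b h1 h2 h3 h4
      rw [e1]
      simp [K.one_mem]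

theorem LetCtx.lit_mem (x : List Nat × List Nat) (hx : x ∈ lit) : Fd K ℓ x.1 x.2 :=
  AllF_mem (all h.sys) x hx

/-- A word of the stabilizer lies in it. -/
theorem LetCtx.st_mem {W w : List Nat} (hok : stOK W w = true) :
    prodA E w ∈ stabU K (tup ℓ W) := by
  simp only [stOK, Bool.and_eq_true, List.any_eq_true, decide_eq_true_eq] at hok
  obtain ⟨h1, x, h2, rfl⟩ := hok
  obtain ⟨h3, h4, h5⟩ := h.lit_mem _ h2
  have hw := wLt_spec h1
  simp only at h3 h4 h5
  obtain ⟨_, h7⟩ := h.tup_val w hw W h4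
  rw [h7] at h5
  have hm := h.prodA_mem w hw
  refine ⟨hm, ?_⟩
  have h8 := K.inv_mem (K.mul_mem (K.inv_mem hm) h5)
  have e : ((prodA E w)⁻¹ * (prodA E w * tup ℓ W * (prodA E w)⁻¹ * (tup ℓ W)⁻¹))⁻¹ =
      tup ℓ W * prodA E w * (tup ℓ W)⁻¹ := by group
  rwa [e] at h8

/-- Every letter is conjugate to a root under the words. -/
theorem LetCtx.cover (c : Cl) (S : Subgroup G) (hcov : covOK c = true)
    (hg : ∀ w ∈ c.gens, prodA E w ∈ S ∧ wLt w = true) :
    ∀ a, a < 1408 → ∃ r ∈ c.roots, ∃ s ∈ S, ℓ a = s * ℓ r * s⁻¹ := by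
  simp only [covOK, Bool.and_eq_true, List.all_eq_true, Bool.or_eq_true, List.any_eq_true] at hcov
  obtain ⟨⟨h1, h2⟩, h3⟩ := hcov
  have hr := allLt_iff.1 h1
  let Q : Nat → Prop := fun a => a < 1408 ∧ ∃ r ∈ c.roots, ∃ s ∈ S, ℓ a = s * ℓ r * s⁻¹
  have hbase : ∀ r ∈ c.roots, Q r := fun r hr' => ⟨hr r hr', r, hr', 1, S.one_mem, by simp⟩
  have hQ : ∀ w ∈ c.gens, ∀ i, Q i → Q (ptL.val w i) := by
    rintro w hw i ⟨hi, r, hr', s, hs, e⟩
    obtain ⟨h4, h5⟩ := hg w hw
    obtain ⟨h6, h7⟩ := h.hval w (wLt_spec h5) i hi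
    refine ⟨h6, r, hr', prodA E w * s, S.mul_mem h4 hs, ?_⟩
    rw [h7, e]
    group
  have hall := levGo_mem Q hQ c.tr (maskOf c.roots) (fun i hi => hbase i (bit_maskOf hi)) h2
  intro a ha
  rcases h3 a (List.mem_range.2 ha) with h4 | ⟨x, hx, h4⟩
  · exact (hbase a (List.contains_iff_mem.1 h4)).2
  · have h5 : x.1 = a := Nat.eq_of_beq_eq_true h4
    have := hall x hx
    rw [h5] at this
    exact this.2

/-- The step of the closure. -/
theorem LetCtx.step (c : Cl) (hc : chkCl c = true) (g : G) (hg : g ∈ K) :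
    ∃ k', k' < 9 ∧ ∃ a ∈ K, ∃ b ∈ K, tup ℓ c.W * g * ℓ 0 = a * tup ℓ (Wd k') * b := by
  simp only [chkCl, Bool.and_eq_true, List.all_eq_true, List.any_eq_true] at hc
  obtain ⟨⟨⟨_, h2⟩, h3⟩, h4⟩ := hc
  obtain ⟨x, hx, e1⟩ := h.hconj g hg
  have hstab : ∀ w ∈ c.gens, prodA E w ∈ stabU K (tup ℓ c.W) ∧ wLt w = true := by
    intro w hw
    refine ⟨h.st_mem (h2 w hw), ?_⟩
    have h5 := h2 w hw
    simp only [stOK, Bool.and_eq_true] at h5
    exact h5.1
  obtain ⟨r, hr, s, hs, e2⟩ := h.cover c _ h4 hstab x hx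
  obtain ⟨ed, _, h5⟩ := h3 r hr
  simp only [edOK, Bool.and_eq_true, List.any_eq_true, decide_eq_true_eq] at h5
  obtain ⟨⟨⟨h6, h7⟩, h8⟩, y, hy, e3⟩ := h5
  have hk : ed.2.1 < 9 := Nat.le_of_ble_eq_true h7
  rw [e3] at hy
  obtain ⟨_, h9, h10⟩ := h.lit_mem _ hy
  simp only at h9 h10
  have hw := wLt_spec h8
  have hm := h.prodA_mem ed.2.2 hw
  have hWk : allLt (Wd ed.2.1) = true := by
    have : ∀ k, k < 9 → allLt (Wd k) = true := by decide
    exact this _ hk
  rw [(h.tup_val ed.2.2 hw _ hWk).2, tup_append, tup_cons, tup_nil, mul_one] at h10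
  refine ⟨ed.2.1, hk, (tup ℓ c.W * s * (tup ℓ c.W)⁻¹) *
      (tup ℓ c.W * ℓ r * (prodA E ed.2.2 * tup ℓ (Wd ed.2.1) * (prodA E ed.2.2)⁻¹)⁻¹) * prodA E ed.2.2,
    K.mul_mem (K.mul_mem hs.2 h10) hm, (prodA E ed.2.2)⁻¹ * s⁻¹ * g,
    K.mul_mem (K.mul_mem (K.inv_mem hm) (K.inv_mem hs.1)) hg, ?_⟩
  have e4 : g * ℓ 0 = ℓ x * g := by
    rw [← e1]
    group
  rw [mul_assoc, e4, e2]
  group

end ctx

theorem relIndex_le {G : Type*} [Group G] {K S : Subgroup G} [Finite K] (hle : S ≤ K) {N T sz : Nat}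
    (hK : Nat.card K ≤ N) (hS : T ≤ Nat.card S) (hT : T * sz = N) (hTpos : 0 < T) :
    S.relIndex K ≤ sz := by
  have h9 := Subgroup.card_mul_index (S.subgroupOf K)
  rw [Nat.card_congr (Subgroup.subgroupOfEquivOfLe hle).toEquiv] at h9
  have h1 : T * S.relIndex K ≤ T * sz := by
    rw [hT]
    calc T * S.relIndex K ≤ Nat.card S * S.relIndex K := Nat.mul_le_mul_right _ hS
      _ = Nat.card K := h9
      _ ≤ N := hK
  exact Nat.le_of_mul_le_mul_left h1 hTpos

end Cfsg.Agent.Lib.TC.D.HNL.Defs
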