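import Cfsg.Agent.Lib.TC.D.HNO.Tab
import Cfsg.Agent.Lib.TC.D.HNL.Defs

namespace Cfsg.Agent.Lib.TC.D.HNL.Kt

open Cfsg.Agent.Lib.TC.Core Cfsg.Agent.Lib.TC.Enc Cfsg.Agent.Lib.TC.Perm Cfsg.Agent.Lib.TC.Chain Cfsg.Agent.Lib.TC.Chain.PermLev Cfsg.Agent.Lib.TC.D.HNO.Tab Cfsg.Agent.Lib.TC.D.HND.Sys Cfsg.Agent.Lib.TC.D.HNL.Defs

set_option maxRecDepth 100000

/-- The levels of the centralizer of the letter. -/
def levsK : List Lev :=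
  [⟨5,
    [[3],[1,3,0],[1,1,3,0,0],[0,3,1]],
    [(10,5,0),(45,5,1),(29,10,0),(105,10,1),(128,45,1),(66,29,0),(609,29,1),(39,105,0),(9,105,1),(351,128,0),(306,128,1),(24,66,0),(1253,66,1),(1589,609,0),(1193,609,1),(803,351,0),(5857,351,1),(824,306,0),(111,306,1),(299,24,1),(3102,1253,0),(1248,1253,1),(1188,1589,0),(459,1193,1),(298,803,0),(4871,5857,0),(823,824,0),(3087,824,1),(2809,3102,0),(3088,1248,0),(1189,459,0),(4876,298,1),(7491,823,1),(1985,3087,1),(5853,2809,0),(1122,2809,1),(7457,3088,0),(1588,1189,0),(2279,1189,1),(3661,4876,0),(3101,7491,0),(794,1985,0),(2180,1122,0),(364,1122,1),(2037,794,1),(1469,2180,0),(2115,2180,1),(325,364,0),(899,2037,1)]⟩,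
  ⟨57,
    [[3,1,3,3,0,3],[3,1,3,3,3,0,2],[1,3,0,3,1,2,0,2]],
    [(170,57,1),(4986,170,2),(5000,4986,0),(195,4986,2),(231,5000,1),(1319,195,0)]⟩,
  ⟨66,
    [[3,1,3,3,0,3],[1,3,0,3,1,2,0,2]],
    [(899,66,1),(306,899,0),(1469,899,1),(794,306,0),(1122,794,0)]⟩,
  ⟨158,
    [[3,1,3,3,0,3],[1,3,0,3,1,2,0,2,1,3,0,3,1,3,0,3,3,1,3,0,2,1,2,0]],
    [(780,158,0),(932,780,0),(209,780,1),(490,932,1)]⟩,
  ⟨178,
    [[1,3,0,3,1,2,0,2,1,3,0,3,1,3,0,3,3,1,3,0,2,1,2,0],[3,1,3,3,0,3,3,1,3,3,0,3,1,3,0,3,1,2,0,2,1,3,0,3,1,3,0,3,3,1,3,0,2,1,2,0,3,1,3,3,0,3]],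
    [(2277,178,0),(553,2277,1),(1951,553,0)]⟩,
  ⟨9,
    [[3,1,3,3,0,3,3,1,3,3,0,3,1,3,0,3,1,2,0,2,1,3,0,3,1,3,0,3,3,1,3,0,2,1,2,0,3,1,3,3,0,3]],
    [(24,9,0),(609,24,0)]⟩]

theorem hlevK : levsOK pt [] levsK = true := by decide +kernel

theorem hprodK : prodM levsK = 126000 := by decide +kernel

/-- The exponent of a word. -/
def expOf : List Nat → Nat
  | [] => 1
  | c :: l => (expOf l * ([2,3,1,1] : List Nat).getD c 0) % 5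

theorem hexpK : (levsK.all fun lv => lv.words.all fun w =>
    (w.all fun z => Nat.blt z 4) && Nat.beq (expOf w) 1) = true := by decide +kernel

end Cfsg.Agent.Lib.TC.D.HNL.Kt
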