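import Cfsg.Agent.Lib.TC.D.HNO.Tab
import Cfsg.Agent.Lib.TC.D.HNL.Defs

namespace Cfsg.Agent.Lib.TC.D.HNL.Lam

open Cfsg.Agent.Lib.TC.Core Cfsg.Agent.Lib.TC.Enc Cfsg.Agent.Lib.TC.Perm Cfsg.Agent.Lib.TC.Chain Cfsg.Agent.Lib.TC.Chain.PermLev Cfsg.Agent.Lib.TC.D.HNO.Tab Cfsg.Agent.Lib.TC.D.HND.Sys Cfsg.Agent.Lib.TC.D.HNL.Defs

set_option maxRecDepth 100000

/-- The points of the letters. -/
noncomputable def lamT : Tr Nat :=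
  (Tr.node (Tr.node (Tr.node (Tr.node (Tr.node (Tr.node (Tr.node (Tr.node (Tr.node (Tr.node (Tr.node (Tr.leaf 1)
 (Tr.leaf 6116))
 (Tr.node (Tr.leaf 1962)
 (Tr.leaf 37250)))
 (Tr.node (Tr.node (Tr.leaf 274)
 (Tr.leaf 12296))
 (Tr.node (Tr.leaf 3461)
 (Tr.leaf 37250))))
 (Tr.node (Tr.node (Tr.node (Tr.leaf 300)
 (Tr.leaf 7932))
 (Tr.node (Tr.leaf 2706)
 (Tr.leaf 37250)))
 (Tr.node (Tr.node (Tr.leaf 1210)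
 (Tr.leaf 37250))
 (Tr.node (Tr.leaf 4960)
 (Tr.leaf 37250)))))
 (Tr.node (Tr.node (Tr.node (Tr.node (Tr.leaf 114)
 (Tr.leaf 7267))
 (Tr.node (Tr.leaf 2208)
 (Tr.leaf 37250)))
 (Tr.node (Tr.node (Tr.leaf 948)
 (Tr.leaf 15123))
 (Tr.node (Tr.leaf 4213)
 (Tr.leaf 37250))))
 (Tr.node (Tr.node (Tr.node (Tr.leaf 485)
 (Tr.leaf 9928))
 (Tr.node (Tr.leaf 3088)
 (Tr.leaf 37250)))
 (Tr.node (Tr.node (Tr.leaf 1420)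
 (Tr.leaf 37250))
 (Tr.node (Tr.leaf 5370)
 (Tr.leaf 37250))))))
 (Tr.node (Tr.node (Tr.node (Tr.node (Tr.node (Tr.leaf 51)
 (Tr.leaf 6828))
 (Tr.node (Tr.leaf 2053)
 (Tr.leaf 37250)))
 (Tr.node (Tr.node (Tr.leaf 831)
 (Tr.leaf 13197))
 (Tr.node (Tr.leaf 3854)
 (Tr.leaf 37250))))
 (Tr.node (Tr.node (Tr.node (Tr.leaf 395)
 (Tr.leaf 8811))
 (Tr.node (Tr.leaf 2944)
 (Tr.leaf 37250)))
 (Tr.node (Tr.node (Tr.leaf 1299)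
 (Tr.leaf 37250))
 (Tr.node (Tr.leaf 5110)
 (Tr.leaf 37250)))))
 (Tr.node (Tr.node (Tr.node (Tr.node (Tr.leaf 188)
 (Tr.leaf 7535))
 (Tr.node (Tr.leaf 2412)
 (Tr.leaf 37250)))
 (Tr.node (Tr.node (Tr.leaf 1088)
 (Tr.leaf 18561))
 (Tr.node (Tr.leaf 4808)
 (Tr.leaf 37250))))
 (Tr.node (Tr.node (Tr.node (Tr.leaf 590)
 (Tr.leaf 12015))
 (Tr.node (Tr.leaf 3218)
 (Tr.leaf 37250)))
 (Tr.node (Tr.node (Tr.leaf 1691)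
 (Tr.leaf 37250))
 (Tr.node (Tr.leaf 5795)
 (Tr.leaf 37250)))))))
 (Tr.node (Tr.node (Tr.node (Tr.node (Tr.node (Tr.node (Tr.leaf 24)
 (Tr.leaf 6632))
 (Tr.node (Tr.leaf 2013)
 (Tr.leaf 37250)))
 (Tr.node (Tr.node (Tr.leaf 803)
 (Tr.leaf 12563))
 (Tr.node (Tr.leaf 3624)
 (Tr.leaf 37250))))
 (Tr.node (Tr.node (Tr.node (Tr.leaf 347)
 (Tr.leaf 8386))
 (Tr.node (Tr.leaf 2810)
 (Tr.leaf 37250)))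
 (Tr.node (Tr.node (Tr.leaf 1257)
 (Tr.leaf 37250))
 (Tr.node (Tr.leaf 5006)
 (Tr.leaf 37250)))))
 (Tr.node (Tr.node (Tr.node (Tr.node (Tr.leaf 151)
 (Tr.leaf 7460))
 (Tr.node (Tr.leaf 2359)
 (Tr.leaf 37250)))
 (Tr.node (Tr.node (Tr.leaf 995)
 (Tr.leaf 17509))
 (Tr.node (Tr.leaf 1849)
 (Tr.leaf 37250))))
 (Tr.node (Tr.node (Tr.node (Tr.leaf 525)
 (Tr.leaf 4699))
 (Tr.node (Tr.leaf 3129)
 (Tr.leaf 37250)))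
 (Tr.node (Tr.node (Tr.leaf 1589)
 (Tr.leaf 37250))
 (Tr.node (Tr.leaf 5442)
 (Tr.leaf 37250))))))
 (Tr.node (Tr.node (Tr.node (Tr.node (Tr.node (Tr.leaf 80)
 (Tr.leaf 7164))
 (Tr.node (Tr.leaf 2118)
 (Tr.leaf 37250)))
 (Tr.node (Tr.node (Tr.leaf 877)
 (Tr.leaf 14270))
 (Tr.node (Tr.leaf 3986)
 (Tr.leaf 37250))))
 (Tr.node (Tr.node (Tr.node (Tr.leaf 450)
 (Tr.leaf 9427))
 (Tr.node (Tr.leaf 3001)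
 (Tr.leaf 37250)))
 (Tr.node (Tr.node (Tr.leaf 1381)
 (Tr.leaf 37250))
 (Tr.node (Tr.leaf 5306)
 (Tr.leaf 37250)))))
 (Tr.node (Tr.node (Tr.node (Tr.node (Tr.leaf 235)
 (Tr.leaf 7745))
 (Tr.node (Tr.leaf 2513)
 (Tr.leaf 37250)))
 (Tr.node (Tr.node (Tr.leaf 1170)
 (Tr.leaf 21043))
 (Tr.node (Tr.leaf 4895)
 (Tr.leaf 37250))))
 (Tr.node (Tr.node (Tr.node (Tr.leaf 656)
 (Tr.leaf 12112))
 (Tr.node (Tr.leaf 3388)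
 (Tr.leaf 37250)))
 (Tr.node (Tr.node (Tr.leaf 708)
 (Tr.leaf 37250))
 (Tr.node (Tr.leaf 5892)
 (Tr.leaf 37250))))))))
 (Tr.node (Tr.node (Tr.node (Tr.node (Tr.node (Tr.node (Tr.node (Tr.leaf 10)
 (Tr.leaf 6459))
 (Tr.node (Tr.leaf 1998)
 (Tr.leaf 37250)))
 (Tr.node (Tr.node (Tr.leaf 781)
 (Tr.leaf 12350))
 (Tr.node (Tr.leaf 3513)
 (Tr.leaf 37250))))
 (Tr.node (Tr.node (Tr.node (Tr.leaf 312)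
 (Tr.leaf 8202))
 (Tr.node (Tr.leaf 2790)
 (Tr.leaf 37250)))
 (Tr.node (Tr.node (Tr.leaf 1237)
 (Tr.leaf 37250))
 (Tr.node (Tr.leaf 4992)
 (Tr.leaf 37250)))))
 (Tr.node (Tr.node (Tr.node (Tr.node (Tr.leaf 133)
 (Tr.leaf 7446))
 (Tr.node (Tr.leaf 2228)
 (Tr.leaf 37250)))
 (Tr.node (Tr.node (Tr.leaf 981)
 (Tr.leaf 16420))
 (Tr.node (Tr.leaf 4273)
 (Tr.leaf 37250))))
 (Tr.node (Tr.node (Tr.node (Tr.leaf 500)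
 (Tr.leaf 10508))
 (Tr.node (Tr.leaf 3103)
 (Tr.leaf 37250)))
 (Tr.node (Tr.node (Tr.leaf 1539)
 (Tr.leaf 37250))
 (Tr.node (Tr.leaf 5396)
 (Tr.leaf 37250))))))
 (Tr.node (Tr.node (Tr.node (Tr.node (Tr.node (Tr.leaf 64)
 (Tr.leaf 7112))
 (Tr.node (Tr.leaf 2090)
 (Tr.leaf 37250)))
 (Tr.node (Tr.node (Tr.leaf 846)
 (Tr.leaf 13361))
 (Tr.node (Tr.leaf 3949)
 (Tr.leaf 37250))))
 (Tr.node (Tr.node (Tr.node (Tr.leaf 426)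
 (Tr.leaf 9403))
 (Tr.node (Tr.leaf 2983)
 (Tr.leaf 37250)))
 (Tr.node (Tr.node (Tr.leaf 1363)
 (Tr.leaf 37250))
 (Tr.node (Tr.leaf 5130)
 (Tr.leaf 37250)))))
 (Tr.node (Tr.node (Tr.node (Tr.node (Tr.leaf 218)
 (Tr.leaf 7595))
 (Tr.node (Tr.leaf 2491)
 (Tr.leaf 37250)))
 (Tr.node (Tr.node (Tr.leaf 1125)
 (Tr.leaf 19483))
 (Tr.node (Tr.leaf 4876)
 (Tr.leaf 37250))))
 (Tr.node (Tr.node (Tr.node (Tr.leaf 624)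
 (Tr.leaf 12088))
 (Tr.node (Tr.leaf 3283)
 (Tr.leaf 37250)))
 (Tr.node (Tr.node (Tr.leaf 1713)
 (Tr.leaf 37250))
 (Tr.node (Tr.leaf 5861)
 (Tr.leaf 37250)))))))
 (Tr.node (Tr.node (Tr.node (Tr.node (Tr.node (Tr.node (Tr.leaf 39)
 (Tr.leaf 6777))
 (Tr.node (Tr.leaf 2037)
 (Tr.leaf 37250)))
 (Tr.node (Tr.node (Tr.leaf 818)
 (Tr.leaf 13019))
 (Tr.node (Tr.leaf 3834)
 (Tr.leaf 37250))))
 (Tr.node (Tr.node (Tr.node (Tr.leaf 367)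
 (Tr.leaf 8526))
 (Tr.node (Tr.leaf 2930)
 (Tr.leaf 37250)))
 (Tr.node (Tr.node (Tr.leaf 1274)
 (Tr.leaf 37250))
 (Tr.node (Tr.leaf 5026)
 (Tr.leaf 37250)))))
 (Tr.node (Tr.node (Tr.node (Tr.node (Tr.leaf 174)
 (Tr.leaf 7495))
 (Tr.node (Tr.leaf 2391)
 (Tr.leaf 37250)))
 (Tr.node (Tr.node (Tr.leaf 1049)
 (Tr.leaf 18268))
 (Tr.node (Tr.leaf 4788)
 (Tr.leaf 37250))))
 (Tr.node (Tr.node (Tr.node (Tr.leaf 537)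
 (Tr.leaf 11835))
 (Tr.node (Tr.leaf 3165)
 (Tr.leaf 37250)))
 (Tr.node (Tr.node (Tr.leaf 723)
 (Tr.leaf 37250))
 (Tr.node (Tr.leaf 5580)
 (Tr.leaf 37250))))))
 (Tr.node (Tr.node (Tr.node (Tr.node (Tr.node (Tr.leaf 37)
 (Tr.leaf 4646))
 (Tr.node (Tr.leaf 2188)
 (Tr.leaf 37250)))
 (Tr.node (Tr.node (Tr.leaf 899)
 (Tr.leaf 14456))
 (Tr.node (Tr.leaf 4125)
 (Tr.leaf 37250))))
 (Tr.node (Tr.node (Tr.node (Tr.leaf 468)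
 (Tr.leaf 9698))
 (Tr.node (Tr.leaf 3056)
 (Tr.leaf 37250)))
 (Tr.node (Tr.node (Tr.leaf 1399)
 (Tr.leaf 37250))
 (Tr.node (Tr.leaf 5328)
 (Tr.leaf 37250)))))
 (Tr.node (Tr.node (Tr.node (Tr.node (Tr.leaf 100)
 (Tr.leaf 7789))
 (Tr.node (Tr.leaf 2644)
 (Tr.leaf 37250)))
 (Tr.node (Tr.node (Tr.leaf 1192)
 (Tr.leaf 24579))
 (Tr.node (Tr.leaf 4923)
 (Tr.leaf 37250))))
 (Tr.node (Tr.node (Tr.node (Tr.leaf 251)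
 (Tr.leaf 12251))
 (Tr.node (Tr.leaf 3439)
 (Tr.leaf 37250)))
 (Tr.node (Tr.node (Tr.leaf 763)
 (Tr.leaf 37250))
 (Tr.node (Tr.leaf 6044)
 (Tr.leaf 37250)))))))))
 (Tr.node (Tr.node (Tr.node (Tr.node (Tr.node (Tr.node (Tr.node (Tr.node (Tr.leaf 2)
 (Tr.leaf 6134))
 (Tr.node (Tr.leaf 1985)
 (Tr.leaf 37250)))
 (Tr.node (Tr.node (Tr.leaf 775)
 (Tr.leaf 12312))
 (Tr.node (Tr.leaf 3477)
 (Tr.leaf 37250))))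
 (Tr.node (Tr.node (Tr.node (Tr.leaf 306)
 (Tr.leaf 8184))
 (Tr.node (Tr.leaf 2729)
 (Tr.leaf 37250)))
 (Tr.node (Tr.node (Tr.leaf 1227)
 (Tr.leaf 37250))
 (Tr.node (Tr.leaf 4986)
 (Tr.leaf 37250)))))
 (Tr.node (Tr.node (Tr.node (Tr.node (Tr.leaf 126)
 (Tr.leaf 7381))
 (Tr.node (Tr.leaf 2214)
 (Tr.leaf 37250)))
 (Tr.node (Tr.node (Tr.leaf 960)
 (Tr.leaf 16099))
 (Tr.node (Tr.leaf 4231)
 (Tr.leaf 37250))))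
 (Tr.node (Tr.node (Tr.node (Tr.leaf 492)
 (Tr.leaf 4555))
 (Tr.node (Tr.leaf 3098)
 (Tr.leaf 37250)))
 (Tr.node (Tr.node (Tr.leaf 1468)
 (Tr.leaf 37250))
 (Tr.node (Tr.leaf 5382)
 (Tr.leaf 37250))))))
 (Tr.node (Tr.node (Tr.node (Tr.node (Tr.node (Tr.leaf 57)
 (Tr.leaf 7099))
 (Tr.node (Tr.leaf 2062)
 (Tr.leaf 37250)))
 (Tr.node (Tr.node (Tr.leaf 840)
 (Tr.leaf 13235))
 (Tr.node (Tr.leaf 3943)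
 (Tr.leaf 37250))))
 (Tr.node (Tr.node (Tr.node (Tr.leaf 412)
 (Tr.leaf 8835))
 (Tr.node (Tr.leaf 2958)
 (Tr.leaf 37250)))
 (Tr.node (Tr.node (Tr.leaf 762)
 (Tr.leaf 37250))
 (Tr.node (Tr.leaf 5118)
 (Tr.leaf 37250)))))
 (Tr.node (Tr.node (Tr.node (Tr.node (Tr.leaf 194)
 (Tr.leaf 7575))
 (Tr.node (Tr.leaf 2477)
 (Tr.leaf 37250)))
 (Tr.node (Tr.node (Tr.leaf 1107)
 (Tr.leaf 19007))
 (Tr.node (Tr.leaf 4870)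
 (Tr.leaf 37250))))
 (Tr.node (Tr.node (Tr.node (Tr.leaf 610)
 (Tr.leaf 12046))
 (Tr.node (Tr.leaf 3230)
 (Tr.leaf 37250)))
 (Tr.node (Tr.node (Tr.leaf 1705)
 (Tr.leaf 37250))
 (Tr.node (Tr.leaf 5853)
 (Tr.leaf 37250)))))))
 (Tr.node (Tr.node (Tr.node (Tr.node (Tr.node (Tr.node (Tr.leaf 29)
 (Tr.leaf 6771))
 (Tr.node (Tr.leaf 2025)
 (Tr.leaf 37250)))
 (Tr.node (Tr.node (Tr.leaf 809)
 (Tr.leaf 13001))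
 (Tr.node (Tr.leaf 3636)
 (Tr.leaf 37250))))
 (Tr.node (Tr.node (Tr.node (Tr.leaf 355)
 (Tr.leaf 8420))
 (Tr.node (Tr.leaf 2904)
 (Tr.leaf 37250)))
 (Tr.node (Tr.node (Tr.leaf 1267)
 (Tr.leaf 37250))
 (Tr.node (Tr.leaf 5014)
 (Tr.leaf 37250)))))
 (Tr.node (Tr.node (Tr.node (Tr.node (Tr.leaf 165)
 (Tr.leaf 7484))
 (Tr.node (Tr.leaf 2377)
 (Tr.leaf 37250)))
 (Tr.node (Tr.node (Tr.leaf 1040)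
 (Tr.leaf 17526))
 (Tr.node (Tr.leaf 1910)
 (Tr.leaf 37250))))
 (Tr.node (Tr.node (Tr.node (Tr.leaf 531)
 (Tr.leaf 11796))
 (Tr.node (Tr.leaf 3147)
 (Tr.leaf 37250)))
 (Tr.node (Tr.node (Tr.leaf 1599)
 (Tr.leaf 37250))
 (Tr.node (Tr.leaf 5555)
 (Tr.leaf 37250))))))
 (Tr.node (Tr.node (Tr.node (Tr.node (Tr.node (Tr.leaf 85)
 (Tr.leaf 7172))
 (Tr.node (Tr.leaf 2176)
 (Tr.leaf 37250)))
 (Tr.node (Tr.node (Tr.leaf 883)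
 (Tr.leaf 14430))
 (Tr.node (Tr.leaf 4021)
 (Tr.leaf 37250))))
 (Tr.node (Tr.node (Tr.node (Tr.leaf 460)
 (Tr.leaf 9684))
 (Tr.node (Tr.leaf 1818)
 (Tr.leaf 37250)))
 (Tr.node (Tr.node (Tr.leaf 1393)
 (Tr.leaf 37250))
 (Tr.node (Tr.leaf 5312)
 (Tr.leaf 37250)))))
 (Tr.node (Tr.node (Tr.node (Tr.node (Tr.leaf 91)
 (Tr.leaf 7763))
 (Tr.node (Tr.leaf 2529)
 (Tr.leaf 37250)))
 (Tr.node (Tr.node (Tr.leaf 1186)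
 (Tr.leaf 23352))
 (Tr.node (Tr.leaf 4905)
 (Tr.leaf 37250))))
 (Tr.node (Tr.node (Tr.node (Tr.leaf 664)
 (Tr.leaf 12240))
 (Tr.node (Tr.leaf 3406)
 (Tr.leaf 37250)))
 (Tr.node (Tr.node (Tr.leaf 730)
 (Tr.leaf 37250))
 (Tr.node (Tr.leaf 5916)
 (Tr.leaf 37250))))))))
 (Tr.node (Tr.node (Tr.node (Tr.node (Tr.node (Tr.node (Tr.node (Tr.leaf 19)
 (Tr.leaf 6508))
 (Tr.node (Tr.leaf 2003)
 (Tr.leaf 37250)))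
 (Tr.node (Tr.node (Tr.leaf 793)
 (Tr.leaf 12370))
 (Tr.node (Tr.leaf 3521)
 (Tr.leaf 37250))))
 (Tr.node (Tr.node (Tr.node (Tr.leaf 321)
 (Tr.leaf 8340))
 (Tr.node (Tr.leaf 2796)
 (Tr.leaf 37250)))
 (Tr.node (Tr.node (Tr.leaf 1249)
 (Tr.leaf 37250))
 (Tr.node (Tr.leaf 5000)
 (Tr.leaf 37250)))))
 (Tr.node (Tr.node (Tr.node (Tr.node (Tr.leaf 143)
 (Tr.leaf 7451))
 (Tr.node (Tr.leaf 2268)
 (Tr.leaf 37250)))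
 (Tr.node (Tr.node (Tr.leaf 987)
 (Tr.leaf 11580))
 (Tr.node (Tr.leaf 1837)
 (Tr.leaf 37250))))
 (Tr.node (Tr.node (Tr.node (Tr.leaf 506)
 (Tr.leaf 4494))
 (Tr.node (Tr.leaf 3113)
 (Tr.leaf 37250)))
 (Tr.node (Tr.node (Tr.leaf 1584)
 (Tr.leaf 37250))
 (Tr.node (Tr.leaf 5436)
 (Tr.leaf 37250))))))
 (Tr.node (Tr.node (Tr.node (Tr.node (Tr.node (Tr.leaf 69)
 (Tr.leaf 7121))
 (Tr.node (Tr.leaf 2096)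
 (Tr.leaf 37250)))
 (Tr.node (Tr.node (Tr.leaf 871)
 (Tr.leaf 13642))
 (Tr.node (Tr.leaf 3961)
 (Tr.leaf 37250))))
 (Tr.node (Tr.node (Tr.node (Tr.leaf 433)
 (Tr.leaf 9415))
 (Tr.node (Tr.leaf 2995)
 (Tr.leaf 37250)))
 (Tr.node (Tr.node (Tr.leaf 1369)
 (Tr.leaf 37250))
 (Tr.node (Tr.leaf 5174)
 (Tr.leaf 37250)))))
 (Tr.node (Tr.node (Tr.node (Tr.node (Tr.leaf 225)
 (Tr.leaf 7619))
 (Tr.node (Tr.leaf 2505)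
 (Tr.leaf 37250)))
 (Tr.node (Tr.node (Tr.leaf 701)
 (Tr.leaf 11307))
 (Tr.node (Tr.leaf 4886)
 (Tr.leaf 37250))))
 (Tr.node (Tr.node (Tr.node (Tr.leaf 641)
 (Tr.leaf 12094))
 (Tr.node (Tr.leaf 3382)
 (Tr.leaf 37250)))
 (Tr.node (Tr.node (Tr.leaf 1728)
 (Tr.leaf 37250))
 (Tr.node (Tr.leaf 5874)
 (Tr.leaf 37250)))))))
 (Tr.node (Tr.node (Tr.node (Tr.node (Tr.node (Tr.node (Tr.leaf 45)
 (Tr.leaf 6795))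
 (Tr.node (Tr.leaf 2048)
 (Tr.leaf 37250)))
 (Tr.node (Tr.node (Tr.leaf 825)
 (Tr.leaf 13111))
 (Tr.node (Tr.leaf 3840)
 (Tr.leaf 37250))))
 (Tr.node (Tr.node (Tr.node (Tr.leaf 387)
 (Tr.leaf 8542))
 (Tr.node (Tr.leaf 2935)
 (Tr.leaf 37250)))
 (Tr.node (Tr.node (Tr.leaf 1293)
 (Tr.leaf 37250))
 (Tr.node (Tr.leaf 5044)
 (Tr.leaf 37250)))))
 (Tr.node (Tr.node (Tr.node (Tr.node (Tr.leaf 179)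
 (Tr.leaf 7521))
 (Tr.node (Tr.leaf 2399)
 (Tr.leaf 37250)))
 (Tr.node (Tr.node (Tr.leaf 1063)
 (Tr.leaf 18352))
 (Tr.node (Tr.leaf 4794)
 (Tr.leaf 37250))))
 (Tr.node (Tr.node (Tr.node (Tr.leaf 553)
 (Tr.leaf 11993))
 (Tr.node (Tr.leaf 3210)
 (Tr.leaf 37250)))
 (Tr.node (Tr.node (Tr.leaf 1669)
 (Tr.leaf 37250))
 (Tr.node (Tr.leaf 5787)
 (Tr.leaf 37250))))))
 (Tr.node (Tr.node (Tr.node (Tr.node (Tr.node (Tr.leaf 109)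
 (Tr.leaf 7247))
 (Tr.node (Tr.leaf 2200)
 (Tr.leaf 37250)))
 (Tr.node (Tr.node (Tr.leaf 934)
 (Tr.leaf 14504))
 (Tr.node (Tr.leaf 4175)
 (Tr.leaf 37250))))
 (Tr.node (Tr.node (Tr.node (Tr.leaf 478)
 (Tr.leaf 9765))
 (Tr.node (Tr.leaf 3083)
 (Tr.leaf 37250)))
 (Tr.node (Tr.node (Tr.leaf 1415)
 (Tr.leaf 37250))
 (Tr.node (Tr.leaf 5360)
 (Tr.leaf 37250)))))
 (Tr.node (Tr.node (Tr.node (Tr.node (Tr.leaf 292)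
 (Tr.leaf 7813))
 (Tr.node (Tr.leaf 2665)
 (Tr.leaf 37250)))
 (Tr.node (Tr.node (Tr.leaf 1198)
 (Tr.leaf 32695))
 (Tr.node (Tr.leaf 4929)
 (Tr.leaf 37250))))
 (Tr.node (Tr.node (Tr.node (Tr.leaf 259)
 (Tr.leaf 12275))
 (Tr.node (Tr.leaf 3449)
 (Tr.leaf 37250)))
 (Tr.node (Tr.node (Tr.leaf 1954)
 (Tr.leaf 37250))
 (Tr.node (Tr.leaf 6078)
 (Tr.leaf 37250))))))))))
 (Tr.node (Tr.node (Tr.node (Tr.node (Tr.node (Tr.node (Tr.node (Tr.node (Tr.node (Tr.leaf 4)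
 (Tr.leaf 6130))
 (Tr.node (Tr.leaf 1979)
 (Tr.leaf 37250)))
 (Tr.node (Tr.node (Tr.leaf 278)
 (Tr.leaf 12300))
 (Tr.node (Tr.leaf 3465)
 (Tr.leaf 37250))))
 (Tr.node (Tr.node (Tr.node (Tr.leaf 303)
 (Tr.leaf 8180))
 (Tr.node (Tr.leaf 2723)
 (Tr.leaf 37250)))
 (Tr.node (Tr.node (Tr.leaf 1214)
 (Tr.leaf 37250))
 (Tr.node (Tr.leaf 4970)
 (Tr.leaf 37250)))))
 (Tr.node (Tr.node (Tr.node (Tr.node (Tr.leaf 118)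
 (Tr.leaf 7269))
 (Tr.node (Tr.leaf 2210)
 (Tr.leaf 37250)))
 (Tr.node (Tr.node (Tr.leaf 954)
 (Tr.leaf 15223))
 (Tr.node (Tr.leaf 4227)
 (Tr.leaf 37250))))
 (Tr.node (Tr.node (Tr.node (Tr.leaf 489)
 (Tr.leaf 10133))
 (Tr.node (Tr.leaf 3091)
 (Tr.leaf 37250)))
 (Tr.node (Tr.node (Tr.leaf 1454)
 (Tr.leaf 37250))
 (Tr.node (Tr.leaf 5378)
 (Tr.leaf 37250))))))
 (Tr.node (Tr.node (Tr.node (Tr.node (Tr.node (Tr.leaf 54)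
 (Tr.leaf 7040))
 (Tr.node (Tr.leaf 2059)
 (Tr.leaf 37250)))
 (Tr.node (Tr.node (Tr.leaf 838)
 (Tr.leaf 13231))
 (Tr.node (Tr.leaf 3918)
 (Tr.leaf 37250))))
 (Tr.node (Tr.node (Tr.node (Tr.leaf 399)
 (Tr.leaf 8823))
 (Tr.node (Tr.leaf 2950)
 (Tr.leaf 37250)))
 (Tr.node (Tr.node (Tr.leaf 1303)
 (Tr.leaf 37250))
 (Tr.node (Tr.leaf 5114)
 (Tr.leaf 37250)))))
 (Tr.node (Tr.node (Tr.node (Tr.node (Tr.leaf 190)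
 (Tr.leaf 7541))
 (Tr.node (Tr.leaf 2469)
 (Tr.leaf 37250)))
 (Tr.node (Tr.node (Tr.leaf 1094)
 (Tr.leaf 18589))
 (Tr.node (Tr.leaf 4848)
 (Tr.leaf 37250))))
 (Tr.node (Tr.node (Tr.node (Tr.leaf 608)
 (Tr.leaf 12040))
 (Tr.node (Tr.leaf 3224)
 (Tr.leaf 37250)))
 (Tr.node (Tr.node (Tr.leaf 1699)
 (Tr.leaf 37250))
 (Tr.node (Tr.leaf 5833)
 (Tr.leaf 37250)))))))
 (Tr.node (Tr.node (Tr.node (Tr.node (Tr.node (Tr.node (Tr.leaf 27)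
 (Tr.leaf 6652))
 (Tr.node (Tr.leaf 2015)
 (Tr.leaf 37250)))
 (Tr.node (Tr.node (Tr.leaf 806)
 (Tr.leaf 12675))
 (Tr.node (Tr.leaf 3634)
 (Tr.leaf 37250))))
 (Tr.node (Tr.node (Tr.node (Tr.leaf 352)
 (Tr.leaf 4696))
 (Tr.node (Tr.leaf 2898)
 (Tr.leaf 37250)))
 (Tr.node (Tr.node (Tr.leaf 1263)
 (Tr.leaf 37250))
 (Tr.node (Tr.leaf 5012)
 (Tr.leaf 37250)))))
 (Tr.node (Tr.node (Tr.node (Tr.node (Tr.leaf 158)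
 (Tr.leaf 7465))
 (Tr.node (Tr.leaf 2361)
 (Tr.leaf 37250)))
 (Tr.node (Tr.node (Tr.leaf 999)
 (Tr.leaf 17512))
 (Tr.node (Tr.leaf 1899)
 (Tr.leaf 37250))))
 (Tr.node (Tr.node (Tr.node (Tr.leaf 527)
 (Tr.leaf 11786))
 (Tr.node (Tr.leaf 3137)
 (Tr.leaf 37250)))
 (Tr.node (Tr.node (Tr.leaf 1592)
 (Tr.leaf 37250))
 (Tr.node (Tr.leaf 5545)
 (Tr.leaf 37250))))))
 (Tr.node (Tr.node (Tr.node (Tr.node (Tr.node (Tr.leaf 82)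
 (Tr.leaf 7170))
 (Tr.node (Tr.leaf 2174)
 (Tr.leaf 37250)))
 (Tr.node (Tr.node (Tr.leaf 879)
 (Tr.leaf 14316))
 (Tr.node (Tr.leaf 3988)
 (Tr.leaf 37250))))
 (Tr.node (Tr.node (Tr.node (Tr.leaf 458)
 (Tr.leaf 9623))
 (Tr.node (Tr.leaf 3005)
 (Tr.leaf 37250)))
 (Tr.node (Tr.node (Tr.leaf 1389)
 (Tr.leaf 37250))
 (Tr.node (Tr.leaf 5310)
 (Tr.leaf 37250)))))
 (Tr.node (Tr.node (Tr.node (Tr.node (Tr.leaf 237)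
 (Tr.leaf 7751))
 (Tr.node (Tr.leaf 2527)
 (Tr.leaf 37250)))
 (Tr.node (Tr.node (Tr.leaf 1184)
 (Tr.leaf 21817))
 (Tr.node (Tr.leaf 4903)
 (Tr.leaf 37250))))
 (Tr.node (Tr.node (Tr.node (Tr.leaf 660)
 (Tr.leaf 12191))
 (Tr.node (Tr.leaf 3404)
 (Tr.leaf 37250)))
 (Tr.node (Tr.node (Tr.leaf 719)
 (Tr.leaf 37250))
 (Tr.node (Tr.leaf 5894)
 (Tr.leaf 37250))))))))
 (Tr.node (Tr.node (Tr.node (Tr.node (Tr.node (Tr.node (Tr.node (Tr.leaf 15)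
 (Tr.leaf 6477))
 (Tr.node (Tr.leaf 2000)
 (Tr.leaf 37250)))
 (Tr.node (Tr.node (Tr.leaf 789)
 (Tr.leaf 12368))
 (Tr.node (Tr.leaf 3519)
 (Tr.leaf 37250))))
 (Tr.node (Tr.node (Tr.node (Tr.leaf 319)
 (Tr.leaf 8292))
 (Tr.node (Tr.leaf 2794)
 (Tr.leaf 37250)))
 (Tr.node (Tr.node (Tr.leaf 1247)
 (Tr.leaf 37250))
 (Tr.node (Tr.leaf 4995)
 (Tr.leaf 37250)))))
 (Tr.node (Tr.node (Tr.node (Tr.node (Tr.leaf 140)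
 (Tr.leaf 7448))
 (Tr.node (Tr.leaf 2262)
 (Tr.leaf 37250)))
 (Tr.node (Tr.node (Tr.leaf 983)
 (Tr.leaf 16667))
 (Tr.node (Tr.leaf 1810)
 (Tr.leaf 37250))))
 (Tr.node (Tr.node (Tr.node (Tr.leaf 504)
 (Tr.leaf 10528))
 (Tr.node (Tr.leaf 3111)
 (Tr.leaf 37250)))
 (Tr.node (Tr.node (Tr.leaf 1543)
 (Tr.leaf 37250))
 (Tr.node (Tr.leaf 5398)
 (Tr.leaf 37250))))))
 (Tr.node (Tr.node (Tr.node (Tr.node (Tr.node (Tr.leaf 66)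
 (Tr.leaf 7117))
 (Tr.node (Tr.leaf 2094)
 (Tr.leaf 37250)))
 (Tr.node (Tr.node (Tr.leaf 867)
 (Tr.leaf 13630))
 (Tr.node (Tr.leaf 3955)
 (Tr.leaf 37250))))
 (Tr.node (Tr.node (Tr.node (Tr.leaf 431)
 (Tr.leaf 9405))
 (Tr.node (Tr.leaf 2986)
 (Tr.leaf 37250)))
 (Tr.node (Tr.node (Tr.leaf 1365)
 (Tr.leaf 37250))
 (Tr.node (Tr.leaf 5136)
 (Tr.leaf 37250)))))
 (Tr.node (Tr.node (Tr.node (Tr.node (Tr.leaf 222)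
 (Tr.leaf 7609))
 (Tr.node (Tr.leaf 2499)
 (Tr.leaf 37250)))
 (Tr.node (Tr.node (Tr.leaf 1127)
 (Tr.leaf 20208))
 (Tr.node (Tr.leaf 4880)
 (Tr.leaf 37250))))
 (Tr.node (Tr.node (Tr.node (Tr.leaf 626)
 (Tr.leaf 12090))
 (Tr.node (Tr.leaf 3378)
 (Tr.leaf 37250)))
 (Tr.node (Tr.node (Tr.leaf 1724)
 (Tr.leaf 37250))
 (Tr.node (Tr.leaf 5868)
 (Tr.leaf 37250)))))))
 (Tr.node (Tr.node (Tr.node (Tr.node (Tr.node (Tr.node (Tr.leaf 41)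
 (Tr.leaf 6785))
 (Tr.node (Tr.leaf 2045)
 (Tr.leaf 37250)))
 (Tr.node (Tr.node (Tr.leaf 823)
 (Tr.leaf 13031))
 (Tr.node (Tr.leaf 3836)
 (Tr.leaf 37250))))
 (Tr.node (Tr.node (Tr.node (Tr.leaf 369)
 (Tr.leaf 8536))
 (Tr.node (Tr.leaf 2932)
 (Tr.leaf 37250)))
 (Tr.node (Tr.node (Tr.leaf 1278)
 (Tr.leaf 37250))
 (Tr.node (Tr.leaf 5034)
 (Tr.leaf 37250)))))
 (Tr.node (Tr.node (Tr.node (Tr.node (Tr.leaf 176)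
 (Tr.leaf 7517))
 (Tr.node (Tr.leaf 2393)
 (Tr.leaf 37250)))
 (Tr.node (Tr.node (Tr.leaf 1059)
 (Tr.leaf 18294))
 (Tr.node (Tr.leaf 4790)
 (Tr.leaf 37250))))
 (Tr.node (Tr.node (Tr.node (Tr.leaf 549)
 (Tr.leaf 11977))
 (Tr.node (Tr.leaf 3208)
 (Tr.leaf 37250)))
 (Tr.node (Tr.node (Tr.leaf 1661)
 (Tr.leaf 37250))
 (Tr.node (Tr.leaf 5785)
 (Tr.leaf 37250))))))
 (Tr.node (Tr.node (Tr.node (Tr.node (Tr.node (Tr.leaf 106)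
 (Tr.leaf 7245))
 (Tr.node (Tr.leaf 2192)
 (Tr.leaf 37250)))
 (Tr.node (Tr.node (Tr.leaf 932)
 (Tr.leaf 14494))
 (Tr.node (Tr.leaf 4171)
 (Tr.leaf 37250))))
 (Tr.node (Tr.node (Tr.node (Tr.leaf 474)
 (Tr.leaf 9763))
 (Tr.node (Tr.leaf 3066)
 (Tr.leaf 37250)))
 (Tr.node (Tr.node (Tr.leaf 1403)
 (Tr.leaf 37250))
 (Tr.node (Tr.leaf 5342)
 (Tr.leaf 37250)))))
 (Tr.node (Tr.node (Tr.node (Tr.node (Tr.leaf 286)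
 (Tr.leaf 7799))
 (Tr.node (Tr.leaf 2661)
 (Tr.leaf 37250)))
 (Tr.node (Tr.node (Tr.leaf 1194)
 (Tr.leaf 26107))
 (Tr.node (Tr.leaf 4927)
 (Tr.leaf 37250))))
 (Tr.node (Tr.node (Tr.node (Tr.leaf 254)
 (Tr.leaf 12266))
 (Tr.node (Tr.leaf 3441)
 (Tr.leaf 37250)))
 (Tr.node (Tr.node (Tr.leaf 1948)
 (Tr.leaf 37250))
 (Tr.node (Tr.leaf 6074)
 (Tr.leaf 37250)))))))))
 (Tr.node (Tr.node (Tr.node (Tr.node (Tr.node (Tr.node (Tr.node (Tr.node (Tr.leaf 8)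
 (Tr.leaf 6166))
 (Tr.node (Tr.leaf 1994)
 (Tr.leaf 37250)))
 (Tr.node (Tr.node (Tr.leaf 779)
 (Tr.leaf 12336))
 (Tr.node (Tr.leaf 3479)
 (Tr.leaf 37250))))
 (Tr.node (Tr.node (Tr.node (Tr.leaf 308)
 (Tr.leaf 8196))
 (Tr.node (Tr.leaf 2739)
 (Tr.leaf 37250)))
 (Tr.node (Tr.node (Tr.leaf 1232)
 (Tr.leaf 37250))
 (Tr.node (Tr.leaf 4988)
 (Tr.leaf 37250)))))
 (Tr.node (Tr.node (Tr.node (Tr.node (Tr.leaf 129)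
 (Tr.leaf 7397))
 (Tr.node (Tr.leaf 2226)
 (Tr.leaf 37250)))
 (Tr.node (Tr.node (Tr.leaf 962)
 (Tr.leaf 16147))
 (Tr.node (Tr.leaf 4263)
 (Tr.leaf 37250))))
 (Tr.node (Tr.node (Tr.node (Tr.leaf 498)
 (Tr.leaf 10410))
 (Tr.node (Tr.leaf 3101)
 (Tr.leaf 37250)))
 (Tr.node (Tr.node (Tr.leaf 1470)
 (Tr.leaf 37250))
 (Tr.node (Tr.leaf 5386)
 (Tr.leaf 37250))))))
 (Tr.node (Tr.node (Tr.node (Tr.node (Tr.node (Tr.leaf 61)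
 (Tr.leaf 7107))
 (Tr.node (Tr.leaf 2069)
 (Tr.leaf 37250)))
 (Tr.node (Tr.node (Tr.leaf 844)
 (Tr.leaf 13343))
 (Tr.node (Tr.leaf 3946)
 (Tr.leaf 37250))))
 (Tr.node (Tr.node (Tr.node (Tr.leaf 416)
 (Tr.leaf 8839))
 (Tr.node (Tr.leaf 2962)
 (Tr.leaf 37250)))
 (Tr.node (Tr.node (Tr.leaf 1322)
 (Tr.leaf 37250))
 (Tr.node (Tr.leaf 5124)
 (Tr.leaf 37250)))))
 (Tr.node (Tr.node (Tr.node (Tr.node (Tr.leaf 209)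
 (Tr.leaf 7589))
 (Tr.node (Tr.leaf 2487)
 (Tr.leaf 37250)))
 (Tr.node (Tr.node (Tr.leaf 1119)
 (Tr.leaf 19069))
 (Tr.node (Tr.leaf 4872)
 (Tr.leaf 37250))))
 (Tr.node (Tr.node (Tr.node (Tr.leaf 618)
 (Tr.leaf 12048))
 (Tr.node (Tr.leaf 3236)
 (Tr.leaf 37250)))
 (Tr.node (Tr.node (Tr.leaf 1709)
 (Tr.leaf 37250))
 (Tr.node (Tr.leaf 5857)
 (Tr.leaf 37250)))))))
 (Tr.node (Tr.node (Tr.node (Tr.node (Tr.node (Tr.node (Tr.leaf 12)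
 (Tr.leaf 6773))
 (Tr.node (Tr.leaf 2028)
 (Tr.leaf 37250)))
 (Tr.node (Tr.node (Tr.leaf 814)
 (Tr.leaf 13011))
 (Tr.node (Tr.leaf 3661)
 (Tr.leaf 37250))))
 (Tr.node (Tr.node (Tr.node (Tr.leaf 363)
 (Tr.leaf 8426))
 (Tr.node (Tr.leaf 2927)
 (Tr.leaf 37250)))
 (Tr.node (Tr.node (Tr.leaf 1272)
 (Tr.leaf 37250))
 (Tr.node (Tr.leaf 5018)
 (Tr.leaf 37250)))))
 (Tr.node (Tr.node (Tr.node (Tr.node (Tr.leaf 170)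
 (Tr.leaf 7491))
 (Tr.node (Tr.leaf 2387)
 (Tr.leaf 37250)))
 (Tr.node (Tr.node (Tr.leaf 1045)
 (Tr.leaf 18263))
 (Tr.node (Tr.leaf 1920)
 (Tr.leaf 37250))))
 (Tr.node (Tr.node (Tr.node (Tr.leaf 533)
 (Tr.leaf 11832))
 (Tr.node (Tr.leaf 3153)
 (Tr.leaf 37250)))
 (Tr.node (Tr.node (Tr.leaf 1611)
 (Tr.leaf 37250))
 (Tr.node (Tr.leaf 5557)
 (Tr.leaf 37250))))))
 (Tr.node (Tr.node (Tr.node (Tr.node (Tr.node (Tr.leaf 34)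
 (Tr.leaf 7186))
 (Tr.node (Tr.leaf 2180)
 (Tr.leaf 37250)))
 (Tr.node (Tr.node (Tr.leaf 895)
 (Tr.leaf 14438))
 (Tr.node (Tr.leaf 4047)
 (Tr.leaf 37250))))
 (Tr.node (Tr.node (Tr.node (Tr.leaf 464)
 (Tr.leaf 9690))
 (Tr.node (Tr.leaf 3046)
 (Tr.leaf 37250)))
 (Tr.node (Tr.node (Tr.leaf 1397)
 (Tr.leaf 37250))
 (Tr.node (Tr.leaf 5326)
 (Tr.leaf 37250)))))
 (Tr.node (Tr.node (Tr.node (Tr.node (Tr.leaf 94)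
 (Tr.leaf 7775))
 (Tr.node (Tr.leaf 2636)
 (Tr.leaf 37250)))
 (Tr.node (Tr.node (Tr.leaf 1189)
 (Tr.leaf 23389))
 (Tr.node (Tr.leaf 4909)
 (Tr.leaf 37250))))
 (Tr.node (Tr.node (Tr.node (Tr.leaf 668)
 (Tr.leaf 11135))
 (Tr.node (Tr.leaf 3420)
 (Tr.leaf 37250)))
 (Tr.node (Tr.node (Tr.leaf 752)
 (Tr.leaf 37250))
 (Tr.node (Tr.leaf 5942)
 (Tr.leaf 37250))))))))
 (Tr.node (Tr.node (Tr.node (Tr.node (Tr.node (Tr.node (Tr.node (Tr.leaf 22)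
 (Tr.leaf 6528))
 (Tr.node (Tr.leaf 2006)
 (Tr.leaf 37250)))
 (Tr.node (Tr.node (Tr.leaf 801)
 (Tr.leaf 12541))
 (Tr.node (Tr.leaf 3525)
 (Tr.leaf 37250))))
 (Tr.node (Tr.node (Tr.node (Tr.leaf 325)
 (Tr.leaf 8378))
 (Tr.node (Tr.leaf 2800)
 (Tr.leaf 37250)))
 (Tr.node (Tr.node (Tr.leaf 1253)
 (Tr.leaf 37250))
 (Tr.node (Tr.leaf 5004)
 (Tr.leaf 37250)))))
 (Tr.node (Tr.node (Tr.node (Tr.node (Tr.leaf 148)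
 (Tr.leaf 7457))
 (Tr.node (Tr.leaf 2278)
 (Tr.leaf 37250)))
 (Tr.node (Tr.node (Tr.leaf 991)
 (Tr.leaf 17359))
 (Tr.node (Tr.leaf 1841)
 (Tr.leaf 37250))))
 (Tr.node (Tr.node (Tr.node (Tr.leaf 521)
 (Tr.leaf 4552))
 (Tr.node (Tr.leaf 3117)
 (Tr.leaf 37250)))
 (Tr.node (Tr.node (Tr.leaf 1586)
 (Tr.leaf 37250))
 (Tr.node (Tr.leaf 5438)
 (Tr.leaf 37250))))))
 (Tr.node (Tr.node (Tr.node (Tr.node (Tr.node (Tr.leaf 75)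
 (Tr.leaf 7135))
 (Tr.node (Tr.leaf 2100)
 (Tr.leaf 37250)))
 (Tr.node (Tr.node (Tr.leaf 873)
 (Tr.leaf 13646))
 (Tr.node (Tr.leaf 3982)
 (Tr.leaf 37250))))
 (Tr.node (Tr.node (Tr.node (Tr.leaf 445)
 (Tr.leaf 9425))
 (Tr.node (Tr.leaf 2997)
 (Tr.leaf 37250)))
 (Tr.node (Tr.node (Tr.leaf 1377)
 (Tr.leaf 37250))
 (Tr.node (Tr.leaf 5302)
 (Tr.leaf 37250)))))
 (Tr.node (Tr.node (Tr.node (Tr.node (Tr.leaf 231)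
 (Tr.leaf 7621))
 (Tr.node (Tr.leaf 2509)
 (Tr.leaf 37250)))
 (Tr.node (Tr.node (Tr.leaf 700)
 (Tr.leaf 11587))
 (Tr.node (Tr.leaf 4890)
 (Tr.leaf 37250))))
 (Tr.node (Tr.node (Tr.node (Tr.leaf 643)
 (Tr.leaf 12110))
 (Tr.node (Tr.leaf 3386)
 (Tr.leaf 37250)))
 (Tr.node (Tr.node (Tr.leaf 1730)
 (Tr.leaf 37250))
 (Tr.node (Tr.leaf 5888)
 (Tr.leaf 37250)))))))
 (Tr.node (Tr.node (Tr.node (Tr.node (Tr.node (Tr.node (Tr.leaf 47)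
 (Tr.leaf 6797))
 (Tr.node (Tr.leaf 2050)
 (Tr.leaf 37250)))
 (Tr.node (Tr.node (Tr.leaf 828)
 (Tr.leaf 13155))
 (Tr.node (Tr.leaf 3844)
 (Tr.leaf 37250))))
 (Tr.node (Tr.node (Tr.node (Tr.leaf 390)
 (Tr.leaf 8558))
 (Tr.node (Tr.leaf 2941)
 (Tr.leaf 37250)))
 (Tr.node (Tr.node (Tr.leaf 1295)
 (Tr.leaf 37250))
 (Tr.node (Tr.leaf 5108)
 (Tr.leaf 37250)))))
 (Tr.node (Tr.node (Tr.node (Tr.node (Tr.leaf 182)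
 (Tr.leaf 7525))
 (Tr.node (Tr.leaf 2401)
 (Tr.leaf 37250)))
 (Tr.node (Tr.node (Tr.leaf 1078)
 (Tr.leaf 18418))
 (Tr.node (Tr.leaf 4798)
 (Tr.leaf 37250))))
 (Tr.node (Tr.node (Tr.node (Tr.leaf 588)
 (Tr.leaf 11995))
 (Tr.node (Tr.leaf 3214)
 (Tr.leaf 37250)))
 (Tr.node (Tr.node (Tr.leaf 1687)
 (Tr.leaf 37250))
 (Tr.node (Tr.leaf 5791)
 (Tr.leaf 37250))))))
 (Tr.node (Tr.node (Tr.node (Tr.node (Tr.node (Tr.leaf 112)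
 (Tr.leaf 7251))
 (Tr.node (Tr.leaf 2204)
 (Tr.leaf 37250)))
 (Tr.node (Tr.node (Tr.leaf 946)
 (Tr.leaf 14585))
 (Tr.node (Tr.leaf 4187)
 (Tr.leaf 37250))))
 (Tr.node (Tr.node (Tr.node (Tr.leaf 483)
 (Tr.leaf 9781))
 (Tr.node (Tr.leaf 3085)
 (Tr.leaf 37250)))
 (Tr.node (Tr.node (Tr.leaf 1417)
 (Tr.leaf 37250))
 (Tr.node (Tr.leaf 5362)
 (Tr.leaf 37250)))))
 (Tr.node (Tr.node (Tr.node (Tr.node (Tr.leaf 298)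
 (Tr.leaf 7926))
 (Tr.node (Tr.leaf 2673)
 (Tr.leaf 37250)))
 (Tr.node (Tr.node (Tr.leaf 1205)
 (Tr.leaf 37249))
 (Tr.node (Tr.leaf 4933)
 (Tr.leaf 37250))))
 (Tr.node (Tr.node (Tr.node (Tr.leaf 263)
 (Tr.leaf 12292))
 (Tr.node (Tr.leaf 3457)
 (Tr.leaf 37250)))
 (Tr.node (Tr.node (Tr.leaf 1958)
 (Tr.leaf 37250))
 (Tr.node (Tr.leaf 6090)
 (Tr.leaf 37250)))))))))))
 (Tr.node (Tr.node (Tr.node (Tr.node (Tr.node (Tr.node (Tr.node (Tr.node (Tr.node (Tr.node (Tr.leaf 3)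
 (Tr.leaf 6123))
 (Tr.node (Tr.leaf 1976)
 (Tr.leaf 37250)))
 (Tr.node (Tr.node (Tr.leaf 275)
 (Tr.leaf 12297))
 (Tr.node (Tr.leaf 3462)
 (Tr.leaf 37250))))
 (Tr.node (Tr.node (Tr.node (Tr.leaf 302)
 (Tr.leaf 7933))
 (Tr.node (Tr.leaf 2720)
 (Tr.leaf 37250)))
 (Tr.node (Tr.node (Tr.leaf 1211)
 (Tr.leaf 37250))
 (Tr.node (Tr.leaf 4961)
 (Tr.leaf 37250)))))
 (Tr.node (Tr.node (Tr.node (Tr.node (Tr.leaf 117)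
 (Tr.leaf 7268))
 (Tr.node (Tr.leaf 2209)
 (Tr.leaf 37250)))
 (Tr.node (Tr.node (Tr.leaf 950)
 (Tr.leaf 15134))
 (Tr.node (Tr.leaf 4220)
 (Tr.leaf 37250))))
 (Tr.node (Tr.node (Tr.node (Tr.leaf 488)
 (Tr.leaf 9929))
 (Tr.node (Tr.leaf 3089)
 (Tr.leaf 37250)))
 (Tr.node (Tr.node (Tr.leaf 1451)
 (Tr.leaf 37250))
 (Tr.node (Tr.leaf 5373)
 (Tr.leaf 37250))))))
 (Tr.node (Tr.node (Tr.node (Tr.node (Tr.node (Tr.leaf 52)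
 (Tr.leaf 6830))
 (Tr.node (Tr.leaf 2057)
 (Tr.leaf 37250)))
 (Tr.node (Tr.node (Tr.leaf 832)
 (Tr.leaf 13228))
 (Tr.node (Tr.leaf 3917)
 (Tr.leaf 37250))))
 (Tr.node (Tr.node (Tr.node (Tr.leaf 398)
 (Tr.leaf 8822))
 (Tr.node (Tr.leaf 2948)
 (Tr.leaf 37250)))
 (Tr.node (Tr.node (Tr.leaf 1300)
 (Tr.leaf 37250))
 (Tr.node (Tr.leaf 5113)
 (Tr.leaf 37250)))))
 (Tr.node (Tr.node (Tr.node (Tr.node (Tr.leaf 189)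
 (Tr.leaf 7538))
 (Tr.node (Tr.leaf 2423)
 (Tr.leaf 37250)))
 (Tr.node (Tr.node (Tr.leaf 1091)
 (Tr.leaf 18575))
 (Tr.node (Tr.leaf 4809)
 (Tr.leaf 37250))))
 (Tr.node (Tr.node (Tr.node (Tr.leaf 601)
 (Tr.leaf 12018))
 (Tr.node (Tr.leaf 3219)
 (Tr.leaf 37250)))
 (Tr.node (Tr.node (Tr.leaf 1696)
 (Tr.leaf 37250))
 (Tr.node (Tr.leaf 5804)
 (Tr.leaf 37250)))))))
 (Tr.node (Tr.node (Tr.node (Tr.node (Tr.node (Tr.node (Tr.leaf 25)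
 (Tr.leaf 6649))
 (Tr.node (Tr.leaf 2014)
 (Tr.leaf 37250)))
 (Tr.node (Tr.node (Tr.leaf 804)
 (Tr.leaf 12566))
 (Tr.node (Tr.leaf 3629)
 (Tr.leaf 37250))))
 (Tr.node (Tr.node (Tr.node (Tr.leaf 351)
 (Tr.leaf 8389))
 (Tr.node (Tr.leaf 2811)
 (Tr.leaf 37250)))
 (Tr.node (Tr.node (Tr.leaf 1258)
 (Tr.leaf 37250))
 (Tr.node (Tr.leaf 5008)
 (Tr.leaf 37250)))))
 (Tr.node (Tr.node (Tr.node (Tr.node (Tr.leaf 155)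
 (Tr.leaf 7461))
 (Tr.node (Tr.leaf 2360)
 (Tr.leaf 37250)))
 (Tr.node (Tr.node (Tr.leaf 996)
 (Tr.leaf 11260))
 (Tr.node (Tr.leaf 1866)
 (Tr.leaf 37250))))
 (Tr.node (Tr.node (Tr.node (Tr.leaf 526)
 (Tr.leaf 4718))
 (Tr.node (Tr.leaf 3133)
 (Tr.leaf 37250)))
 (Tr.node (Tr.node (Tr.leaf 1590)
 (Tr.leaf 37250))
 (Tr.node (Tr.leaf 5443)
 (Tr.leaf 37250))))))
 (Tr.node (Tr.node (Tr.node (Tr.node (Tr.node (Tr.leaf 81)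
 (Tr.leaf 7167))
 (Tr.node (Tr.leaf 2119)
 (Tr.leaf 37250)))
 (Tr.node (Tr.node (Tr.leaf 878)
 (Tr.leaf 14279))
 (Tr.node (Tr.leaf 3987)
 (Tr.leaf 37250))))
 (Tr.node (Tr.node (Tr.node (Tr.leaf 451)
 (Tr.leaf 9458))
 (Tr.node (Tr.leaf 3002)
 (Tr.leaf 37250)))
 (Tr.node (Tr.node (Tr.leaf 1384)
 (Tr.leaf 37250))
 (Tr.node (Tr.leaf 5307)
 (Tr.leaf 37250)))))
 (Tr.node (Tr.node (Tr.node (Tr.node (Tr.leaf 236)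
 (Tr.leaf 7748))
 (Tr.node (Tr.leaf 2524)
 (Tr.leaf 37250)))
 (Tr.node (Tr.node (Tr.leaf 1173)
 (Tr.leaf 21816))
 (Tr.node (Tr.leaf 4898)
 (Tr.leaf 37250))))
 (Tr.node (Tr.node (Tr.node (Tr.leaf 659)
 (Tr.leaf 12182))
 (Tr.node (Tr.leaf 3391)
 (Tr.leaf 37250)))
 (Tr.node (Tr.node (Tr.leaf 718)
 (Tr.leaf 37250))
 (Tr.node (Tr.leaf 5893)
 (Tr.leaf 37250))))))))
 (Tr.node (Tr.node (Tr.node (Tr.node (Tr.node (Tr.node (Tr.node (Tr.leaf 6)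
 (Tr.leaf 6462))
 (Tr.node (Tr.leaf 1999)
 (Tr.leaf 37250)))
 (Tr.node (Tr.node (Tr.leaf 782)
 (Tr.leaf 12355))
 (Tr.node (Tr.leaf 3516)
 (Tr.leaf 37250))))
 (Tr.node (Tr.node (Tr.node (Tr.leaf 318)
 (Tr.leaf 8211))
 (Tr.node (Tr.leaf 2791)
 (Tr.leaf 37250)))
 (Tr.node (Tr.node (Tr.leaf 1240)
 (Tr.leaf 37250))
 (Tr.node (Tr.leaf 4993)
 (Tr.leaf 37250)))))
 (Tr.node (Tr.node (Tr.node (Tr.node (Tr.leaf 134)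
 (Tr.leaf 7447))
 (Tr.node (Tr.leaf 2231)
 (Tr.leaf 37250)))
 (Tr.node (Tr.node (Tr.leaf 982)
 (Tr.leaf 16467))
 (Tr.node (Tr.leaf 4278)
 (Tr.leaf 37250))))
 (Tr.node (Tr.node (Tr.node (Tr.leaf 503)
 (Tr.leaf 10523))
 (Tr.node (Tr.leaf 3105)
 (Tr.leaf 37250)))
 (Tr.node (Tr.node (Tr.leaf 1540)
 (Tr.leaf 37250))
 (Tr.node (Tr.leaf 5397)
 (Tr.leaf 37250))))))
 (Tr.node (Tr.node (Tr.node (Tr.node (Tr.node (Tr.leaf 65)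
 (Tr.leaf 7116))
 (Tr.node (Tr.leaf 2091)
 (Tr.leaf 37250)))
 (Tr.node (Tr.node (Tr.leaf 866)
 (Tr.leaf 13619))
 (Tr.node (Tr.leaf 3953)
 (Tr.leaf 37250))))
 (Tr.node (Tr.node (Tr.node (Tr.leaf 427)
 (Tr.leaf 9404))
 (Tr.node (Tr.leaf 1883)
 (Tr.leaf 37250)))
 (Tr.node (Tr.node (Tr.leaf 1364)
 (Tr.leaf 37250))
 (Tr.node (Tr.leaf 5131)
 (Tr.leaf 37250)))))
 (Tr.node (Tr.node (Tr.node (Tr.node (Tr.leaf 219)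
 (Tr.leaf 7596))
 (Tr.node (Tr.leaf 2496)
 (Tr.leaf 37250)))
 (Tr.node (Tr.node (Tr.leaf 1126)
 (Tr.leaf 19486))
 (Tr.node (Tr.leaf 4877)
 (Tr.leaf 37250))))
 (Tr.node (Tr.node (Tr.node (Tr.leaf 625)
 (Tr.leaf 12089))
 (Tr.node (Tr.leaf 3286)
 (Tr.leaf 37250)))
 (Tr.node (Tr.node (Tr.leaf 709)
 (Tr.leaf 37250))
 (Tr.node (Tr.leaf 5866)
 (Tr.leaf 37250)))))))
 (Tr.node (Tr.node (Tr.node (Tr.node (Tr.node (Tr.node (Tr.leaf 40)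
 (Tr.leaf 6784))
 (Tr.node (Tr.leaf 2044)
 (Tr.leaf 37250)))
 (Tr.node (Tr.node (Tr.leaf 819)
 (Tr.leaf 13022))
 (Tr.node (Tr.leaf 3835)
 (Tr.leaf 37250))))
 (Tr.node (Tr.node (Tr.node (Tr.leaf 368)
 (Tr.leaf 8531))
 (Tr.node (Tr.leaf 2931)
 (Tr.leaf 37250)))
 (Tr.node (Tr.node (Tr.leaf 1277)
 (Tr.leaf 37250))
 (Tr.node (Tr.leaf 5030)
 (Tr.leaf 37250)))))
 (Tr.node (Tr.node (Tr.node (Tr.node (Tr.leaf 175)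
 (Tr.leaf 7499))
 (Tr.node (Tr.leaf 2392)
 (Tr.leaf 37250)))
 (Tr.node (Tr.node (Tr.leaf 1058)
 (Tr.leaf 18281))
 (Tr.node (Tr.leaf 4789)
 (Tr.leaf 37250))))
 (Tr.node (Tr.node (Tr.node (Tr.leaf 548)
 (Tr.leaf 11940))
 (Tr.node (Tr.leaf 3168)
 (Tr.leaf 37250)))
 (Tr.node (Tr.node (Tr.leaf 1626)
 (Tr.leaf 37250))
 (Tr.node (Tr.leaf 5581)
 (Tr.leaf 37250))))))
 (Tr.node (Tr.node (Tr.node (Tr.node (Tr.node (Tr.leaf 105)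
 (Tr.leaf 4516))
 (Tr.node (Tr.leaf 2189)
 (Tr.leaf 37250)))
 (Tr.node (Tr.node (Tr.leaf 931)
 (Tr.leaf 14493))
 (Tr.node (Tr.leaf 4136)
 (Tr.leaf 37250))))
 (Tr.node (Tr.node (Tr.node (Tr.leaf 473)
 (Tr.leaf 9705))
 (Tr.node (Tr.leaf 3059)
 (Tr.leaf 37250)))
 (Tr.node (Tr.node (Tr.leaf 1402)
 (Tr.leaf 37250))
 (Tr.node (Tr.leaf 5339)
 (Tr.leaf 37250)))))
 (Tr.node (Tr.node (Tr.node (Tr.node (Tr.leaf 101)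
 (Tr.leaf 7794))
 (Tr.node (Tr.leaf 2647)
 (Tr.leaf 37250)))
 (Tr.node (Tr.node (Tr.leaf 1193)
 (Tr.leaf 24582))
 (Tr.node (Tr.leaf 4924)
 (Tr.leaf 37250))))
 (Tr.node (Tr.node (Tr.node (Tr.leaf 253)
 (Tr.leaf 12255))
 (Tr.node (Tr.leaf 3440)
 (Tr.leaf 37250)))
 (Tr.node (Tr.node (Tr.leaf 1945)
 (Tr.leaf 37250))
 (Tr.node (Tr.leaf 6053)
 (Tr.leaf 37250)))))))))
 (Tr.node (Tr.node (Tr.node (Tr.node (Tr.node (Tr.node (Tr.node (Tr.node (Tr.leaf 7)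
 (Tr.leaf 6135))
 (Tr.node (Tr.leaf 1993)
 (Tr.leaf 37250)))
 (Tr.node (Tr.node (Tr.leaf 776)
 (Tr.leaf 12315))
 (Tr.node (Tr.leaf 3478)
 (Tr.leaf 37250))))
 (Tr.node (Tr.node (Tr.node (Tr.leaf 307)
 (Tr.leaf 8191))
 (Tr.node (Tr.leaf 2738)
 (Tr.leaf 37250)))
 (Tr.node (Tr.node (Tr.leaf 1228)
 (Tr.leaf 37250))
 (Tr.node (Tr.leaf 4987)
 (Tr.leaf 37250)))))
 (Tr.node (Tr.node (Tr.node (Tr.node (Tr.leaf 128)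
 (Tr.leaf 7382))
 (Tr.node (Tr.leaf 2225)
 (Tr.leaf 37250)))
 (Tr.node (Tr.node (Tr.leaf 961)
 (Tr.leaf 16100))
 (Tr.node (Tr.leaf 4232)
 (Tr.leaf 37250))))
 (Tr.node (Tr.node (Tr.node (Tr.leaf 493)
 (Tr.leaf 4545))
 (Tr.node (Tr.leaf 3099)
 (Tr.leaf 37250)))
 (Tr.node (Tr.node (Tr.leaf 1469)
 (Tr.leaf 37250))
 (Tr.node (Tr.leaf 5383)
 (Tr.leaf 37250))))))
 (Tr.node (Tr.node (Tr.node (Tr.node (Tr.node (Tr.leaf 58)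
 (Tr.leaf 7102))
 (Tr.node (Tr.leaf 2066)
 (Tr.leaf 37250)))
 (Tr.node (Tr.node (Tr.leaf 843)
 (Tr.leaf 13340))
 (Tr.node (Tr.leaf 3945)
 (Tr.leaf 37250))))
 (Tr.node (Tr.node (Tr.node (Tr.leaf 413)
 (Tr.leaf 8838))
 (Tr.node (Tr.leaf 2959)
 (Tr.leaf 37250)))
 (Tr.node (Tr.node (Tr.leaf 1319)
 (Tr.leaf 37250))
 (Tr.node (Tr.leaf 5119)
 (Tr.leaf 37250)))))
 (Tr.node (Tr.node (Tr.node (Tr.node (Tr.leaf 195)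
 (Tr.leaf 7582))
 (Tr.node (Tr.leaf 2486)
 (Tr.leaf 37250)))
 (Tr.node (Tr.node (Tr.leaf 1110)
 (Tr.leaf 19008))
 (Tr.node (Tr.leaf 4871)
 (Tr.leaf 37250))))
 (Tr.node (Tr.node (Tr.node (Tr.leaf 613)
 (Tr.leaf 12047))
 (Tr.node (Tr.leaf 3231)
 (Tr.leaf 37250)))
 (Tr.node (Tr.node (Tr.leaf 1708)
 (Tr.leaf 37250))
 (Tr.node (Tr.leaf 5856)
 (Tr.leaf 37250)))))))
 (Tr.node (Tr.node (Tr.node (Tr.node (Tr.node (Tr.node (Tr.leaf 30)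
 (Tr.leaf 6772))
 (Tr.node (Tr.leaf 2027)
 (Tr.leaf 37250)))
 (Tr.node (Tr.node (Tr.leaf 813)
 (Tr.leaf 13004))
 (Tr.node (Tr.leaf 3660)
 (Tr.leaf 37250))))
 (Tr.node (Tr.node (Tr.node (Tr.leaf 357)
 (Tr.leaf 8423))
 (Tr.node (Tr.leaf 2926)
 (Tr.leaf 37250)))
 (Tr.node (Tr.node (Tr.leaf 1268)
 (Tr.leaf 37250))
 (Tr.node (Tr.leaf 5017)
 (Tr.leaf 37250)))))
 (Tr.node (Tr.node (Tr.node (Tr.node (Tr.leaf 169)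
 (Tr.leaf 7487))
 (Tr.node (Tr.leaf 2386)
 (Tr.leaf 37250)))
 (Tr.node (Tr.node (Tr.leaf 1041)
 (Tr.leaf 17555))
 (Tr.node (Tr.leaf 1911)
 (Tr.leaf 37250))))
 (Tr.node (Tr.node (Tr.node (Tr.leaf 532)
 (Tr.leaf 11799))
 (Tr.node (Tr.leaf 3150)
 (Tr.leaf 37250)))
 (Tr.node (Tr.node (Tr.leaf 1600)
 (Tr.leaf 37250))
 (Tr.node (Tr.leaf 5556)
 (Tr.leaf 37250))))))
 (Tr.node (Tr.node (Tr.node (Tr.node (Tr.node (Tr.leaf 33)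
 (Tr.leaf 7185))
 (Tr.node (Tr.leaf 2177)
 (Tr.leaf 37250)))
 (Tr.node (Tr.node (Tr.leaf 894)
 (Tr.leaf 14437))
 (Tr.node (Tr.leaf 4030)
 (Tr.leaf 37250))))
 (Tr.node (Tr.node (Tr.node (Tr.leaf 461)
 (Tr.leaf 9689))
 (Tr.node (Tr.leaf 3043)
 (Tr.leaf 37250)))
 (Tr.node (Tr.node (Tr.leaf 1394)
 (Tr.leaf 37250))
 (Tr.node (Tr.leaf 5315)
 (Tr.leaf 37250)))))
 (Tr.node (Tr.node (Tr.node (Tr.node (Tr.leaf 93)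
 (Tr.leaf 7766))
 (Tr.node (Tr.leaf 2530)
 (Tr.leaf 37250)))
 (Tr.node (Tr.node (Tr.leaf 1188)
 (Tr.leaf 11259))
 (Tr.node (Tr.leaf 4908)
 (Tr.leaf 37250))))
 (Tr.node (Tr.node (Tr.node (Tr.leaf 665)
 (Tr.leaf 12243))
 (Tr.node (Tr.leaf 3417)
 (Tr.leaf 37250)))
 (Tr.node (Tr.node (Tr.leaf 751)
 (Tr.leaf 37250))
 (Tr.node (Tr.leaf 5925)
 (Tr.leaf 37250))))))))
 (Tr.node (Tr.node (Tr.node (Tr.node (Tr.node (Tr.node (Tr.node (Tr.leaf 20)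
 (Tr.leaf 6511))
 (Tr.node (Tr.leaf 2004)
 (Tr.leaf 37250)))
 (Tr.node (Tr.node (Tr.leaf 794)
 (Tr.leaf 12389))
 (Tr.node (Tr.leaf 3522)
 (Tr.leaf 37250))))
 (Tr.node (Tr.node (Tr.node (Tr.leaf 324)
 (Tr.leaf 8343))
 (Tr.node (Tr.leaf 2799)
 (Tr.leaf 37250)))
 (Tr.node (Tr.node (Tr.leaf 1252)
 (Tr.leaf 37250))
 (Tr.node (Tr.leaf 5001)
 (Tr.leaf 37250)))))
 (Tr.node (Tr.node (Tr.node (Tr.node (Tr.leaf 144)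
 (Tr.leaf 7452))
 (Tr.node (Tr.leaf 2277)
 (Tr.leaf 37250)))
 (Tr.node (Tr.node (Tr.leaf 990)
 (Tr.leaf 16721))
 (Tr.node (Tr.leaf 1840)
 (Tr.leaf 37250))))
 (Tr.node (Tr.node (Tr.node (Tr.leaf 520)
 (Tr.leaf 4497))
 (Tr.node (Tr.leaf 3116)
 (Tr.leaf 37250)))
 (Tr.node (Tr.node (Tr.leaf 1585)
 (Tr.leaf 37250))
 (Tr.node (Tr.leaf 5437)
 (Tr.leaf 37250))))))
 (Tr.node (Tr.node (Tr.node (Tr.node (Tr.node (Tr.leaf 70)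
 (Tr.leaf 7131))
 (Tr.node (Tr.leaf 2099)
 (Tr.leaf 37250)))
 (Tr.node (Tr.node (Tr.leaf 872)
 (Tr.leaf 13645))
 (Tr.node (Tr.leaf 3962)
 (Tr.leaf 37250))))
 (Tr.node (Tr.node (Tr.node (Tr.leaf 434)
 (Tr.leaf 9416))
 (Tr.node (Tr.leaf 2996)
 (Tr.leaf 37250)))
 (Tr.node (Tr.node (Tr.leaf 1372)
 (Tr.leaf 37250))
 (Tr.node (Tr.leaf 5177)
 (Tr.leaf 37250)))))
 (Tr.node (Tr.node (Tr.node (Tr.node (Tr.leaf 230)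
 (Tr.leaf 7620))
 (Tr.node (Tr.leaf 2508)
 (Tr.leaf 37250)))
 (Tr.node (Tr.node (Tr.leaf 1160)
 (Tr.leaf 11634))
 (Tr.node (Tr.leaf 4888)
 (Tr.leaf 37250))))
 (Tr.node (Tr.node (Tr.node (Tr.leaf 642)
 (Tr.leaf 12101))
 (Tr.node (Tr.leaf 3383)
 (Tr.leaf 37250)))
 (Tr.node (Tr.node (Tr.leaf 1729)
 (Tr.leaf 37250))
 (Tr.node (Tr.leaf 5875)
 (Tr.leaf 37250)))))))
 (Tr.node (Tr.node (Tr.node (Tr.node (Tr.node (Tr.node (Tr.leaf 46)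
 (Tr.leaf 6796))
 (Tr.node (Tr.leaf 2049)
 (Tr.leaf 37250)))
 (Tr.node (Tr.node (Tr.leaf 827)
 (Tr.leaf 13152))
 (Tr.node (Tr.leaf 3841)
 (Tr.leaf 37250))))
 (Tr.node (Tr.node (Tr.node (Tr.leaf 389)
 (Tr.leaf 8555))
 (Tr.node (Tr.leaf 2939)
 (Tr.leaf 37250)))
 (Tr.node (Tr.node (Tr.leaf 1294)
 (Tr.leaf 37250))
 (Tr.node (Tr.leaf 5054)
 (Tr.leaf 37250)))))
 (Tr.node (Tr.node (Tr.node (Tr.node (Tr.leaf 180)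
 (Tr.leaf 7522))
 (Tr.node (Tr.leaf 2400)
 (Tr.leaf 37250)))
 (Tr.node (Tr.node (Tr.leaf 1070)
 (Tr.leaf 18363))
 (Tr.node (Tr.leaf 4795)
 (Tr.leaf 37250))))
 (Tr.node (Tr.node (Tr.node (Tr.leaf 587)
 (Tr.leaf 11994))
 (Tr.node (Tr.leaf 3213)
 (Tr.leaf 37250)))
 (Tr.node (Tr.node (Tr.leaf 1686)
 (Tr.leaf 37250))
 (Tr.node (Tr.leaf 5790)
 (Tr.leaf 37250))))))
 (Tr.node (Tr.node (Tr.node (Tr.node (Tr.node (Tr.leaf 111)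
 (Tr.leaf 7250))
 (Tr.node (Tr.leaf 2201)
 (Tr.leaf 37250)))
 (Tr.node (Tr.node (Tr.leaf 940)
 (Tr.leaf 14511))
 (Tr.node (Tr.leaf 4186)
 (Tr.leaf 37250))))
 (Tr.node (Tr.node (Tr.node (Tr.leaf 479)
 (Tr.leaf 9774))
 (Tr.node (Tr.leaf 3084)
 (Tr.leaf 37250)))
 (Tr.node (Tr.node (Tr.leaf 1416)
 (Tr.leaf 37250))
 (Tr.node (Tr.leaf 5361)
 (Tr.leaf 37250)))))
 (Tr.node (Tr.node (Tr.node (Tr.node (Tr.leaf 294)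
 (Tr.leaf 7824))
 (Tr.node (Tr.leaf 2672)
 (Tr.leaf 37250)))
 (Tr.node (Tr.node (Tr.leaf 1204)
 (Tr.leaf 32696))
 (Tr.node (Tr.leaf 4932)
 (Tr.leaf 37250))))
 (Tr.node (Tr.node (Tr.node (Tr.leaf 262)
 (Tr.leaf 12281))
 (Tr.node (Tr.leaf 3452)
 (Tr.leaf 37250)))
 (Tr.node (Tr.node (Tr.leaf 1957)
 (Tr.leaf 37250))
 (Tr.node (Tr.leaf 6089)
 (Tr.leaf 37250))))))))))
 (Tr.node (Tr.node (Tr.node (Tr.node (Tr.node (Tr.node (Tr.node (Tr.node (Tr.node (Tr.leaf 5)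
 (Tr.leaf 6133))
 (Tr.node (Tr.leaf 1982)
 (Tr.leaf 37250)))
 (Tr.node (Tr.node (Tr.leaf 279)
 (Tr.leaf 12309))
 (Tr.node (Tr.leaf 3476)
 (Tr.leaf 37250))))
 (Tr.node (Tr.node (Tr.node (Tr.leaf 304)
 (Tr.leaf 8181))
 (Tr.node (Tr.leaf 2728)
 (Tr.leaf 37250)))
 (Tr.node (Tr.node (Tr.leaf 1225)
 (Tr.leaf 37250))
 (Tr.node (Tr.leaf 4971)
 (Tr.leaf 37250)))))
 (Tr.node (Tr.node (Tr.node (Tr.node (Tr.leaf 124)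
 (Tr.leaf 7372))
 (Tr.node (Tr.leaf 2213)
 (Tr.leaf 37250)))
 (Tr.node (Tr.node (Tr.leaf 956)
 (Tr.leaf 15248))
 (Tr.node (Tr.leaf 4230)
 (Tr.leaf 37250))))
 (Tr.node (Tr.node (Tr.node (Tr.leaf 490)
 (Tr.leaf 10134))
 (Tr.node (Tr.leaf 3097)
 (Tr.leaf 37250)))
 (Tr.node (Tr.node (Tr.leaf 1457)
 (Tr.leaf 37250))
 (Tr.node (Tr.leaf 5379)
 (Tr.leaf 37250))))))
 (Tr.node (Tr.node (Tr.node (Tr.node (Tr.node (Tr.leaf 55)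
 (Tr.leaf 7053))
 (Tr.node (Tr.leaf 2061)
 (Tr.leaf 37250)))
 (Tr.node (Tr.node (Tr.leaf 839)
 (Tr.leaf 13234))
 (Tr.node (Tr.leaf 3942)
 (Tr.leaf 37250))))
 (Tr.node (Tr.node (Tr.node (Tr.leaf 408)
 (Tr.leaf 8834))
 (Tr.node (Tr.leaf 2957)
 (Tr.leaf 37250)))
 (Tr.node (Tr.node (Tr.leaf 1304)
 (Tr.leaf 37250))
 (Tr.node (Tr.leaf 5115)
 (Tr.leaf 37250)))))
 (Tr.node (Tr.node (Tr.node (Tr.node (Tr.leaf 191)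
 (Tr.leaf 7542))
 (Tr.node (Tr.leaf 2474)
 (Tr.leaf 37250)))
 (Tr.node (Tr.node (Tr.leaf 1095)
 (Tr.leaf 18606))
 (Tr.node (Tr.leaf 4853)
 (Tr.leaf 37250))))
 (Tr.node (Tr.node (Tr.node (Tr.leaf 609)
 (Tr.leaf 12043))
 (Tr.node (Tr.leaf 3227)
 (Tr.leaf 37250)))
 (Tr.node (Tr.node (Tr.leaf 1704)
 (Tr.leaf 37250))
 (Tr.node (Tr.leaf 5852)
 (Tr.leaf 37250)))))))
 (Tr.node (Tr.node (Tr.node (Tr.node (Tr.node (Tr.node (Tr.leaf 28)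
 (Tr.leaf 6671))
 (Tr.node (Tr.leaf 2018)
 (Tr.leaf 37250)))
 (Tr.node (Tr.node (Tr.leaf 808)
 (Tr.leaf 13000))
 (Tr.node (Tr.leaf 3635)
 (Tr.leaf 37250))))
 (Tr.node (Tr.node (Tr.node (Tr.leaf 354)
 (Tr.leaf 4674))
 (Tr.node (Tr.leaf 2899)
 (Tr.leaf 37250)))
 (Tr.node (Tr.node (Tr.leaf 1265)
 (Tr.leaf 37250))
 (Tr.node (Tr.leaf 5013)
 (Tr.leaf 37250)))))
 (Tr.node (Tr.node (Tr.node (Tr.node (Tr.leaf 163)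
 (Tr.leaf 7483))
 (Tr.node (Tr.leaf 2364)
 (Tr.leaf 37250)))
 (Tr.node (Tr.node (Tr.leaf 1000)
 (Tr.leaf 17525))
 (Tr.node (Tr.leaf 1902)
 (Tr.leaf 37250))))
 (Tr.node (Tr.node (Tr.node (Tr.leaf 530)
 (Tr.leaf 11789))
 (Tr.node (Tr.leaf 3140)
 (Tr.leaf 37250)))
 (Tr.node (Tr.node (Tr.leaf 1598)
 (Tr.leaf 37250))
 (Tr.node (Tr.leaf 5550)
 (Tr.leaf 37250))))))
 (Tr.node (Tr.node (Tr.node (Tr.node (Tr.node (Tr.leaf 84)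
 (Tr.leaf 7171))
 (Tr.node (Tr.leaf 2175)
 (Tr.leaf 37250)))
 (Tr.node (Tr.node (Tr.leaf 882)
 (Tr.leaf 14428))
 (Tr.node (Tr.leaf 3991)
 (Tr.leaf 37250))))
 (Tr.node (Tr.node (Tr.node (Tr.leaf 459)
 (Tr.leaf 9681))
 (Tr.node (Tr.leaf 3006)
 (Tr.leaf 37250)))
 (Tr.node (Tr.node (Tr.leaf 1390)
 (Tr.leaf 37250))
 (Tr.node (Tr.leaf 5311)
 (Tr.leaf 37250)))))
 (Tr.node (Tr.node (Tr.node (Tr.node (Tr.leaf 90)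
 (Tr.leaf 7760))
 (Tr.node (Tr.leaf 2528)
 (Tr.leaf 37250)))
 (Tr.node (Tr.node (Tr.leaf 1185)
 (Tr.leaf 23349))
 (Tr.node (Tr.leaf 4904)
 (Tr.leaf 37250))))
 (Tr.node (Tr.node (Tr.node (Tr.leaf 663)
 (Tr.leaf 12204))
 (Tr.node (Tr.leaf 3405)
 (Tr.leaf 37250)))
 (Tr.node (Tr.node (Tr.leaf 722)
 (Tr.leaf 37250))
 (Tr.node (Tr.leaf 5897)
 (Tr.leaf 37250))))))))
 (Tr.node (Tr.node (Tr.node (Tr.node (Tr.node (Tr.node (Tr.node (Tr.leaf 16)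
 (Tr.leaf 6503))
 (Tr.node (Tr.leaf 2002)
 (Tr.leaf 37250)))
 (Tr.node (Tr.node (Tr.leaf 790)
 (Tr.leaf 12369))
 (Tr.node (Tr.leaf 3520)
 (Tr.leaf 37250))))
 (Tr.node (Tr.node (Tr.node (Tr.leaf 320)
 (Tr.leaf 8297))
 (Tr.node (Tr.leaf 2795)
 (Tr.leaf 37250)))
 (Tr.node (Tr.node (Tr.leaf 1248)
 (Tr.leaf 37250))
 (Tr.node (Tr.leaf 4999)
 (Tr.leaf 37250)))))
 (Tr.node (Tr.node (Tr.node (Tr.node (Tr.leaf 141)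
 (Tr.leaf 7449))
 (Tr.node (Tr.leaf 2265)
 (Tr.leaf 37250)))
 (Tr.node (Tr.node (Tr.leaf 986)
 (Tr.leaf 16670))
 (Tr.node (Tr.leaf 1811)
 (Tr.leaf 37250))))
 (Tr.node (Tr.node (Tr.node (Tr.leaf 505)
 (Tr.leaf 10541))
 (Tr.node (Tr.leaf 3112)
 (Tr.leaf 37250)))
 (Tr.node (Tr.node (Tr.leaf 1572)
 (Tr.leaf 37250))
 (Tr.node (Tr.leaf 5401)
 (Tr.leaf 37250))))))
 (Tr.node (Tr.node (Tr.node (Tr.node (Tr.node (Tr.leaf 67)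
 (Tr.leaf 7118))
 (Tr.node (Tr.leaf 2095)
 (Tr.leaf 37250)))
 (Tr.node (Tr.node (Tr.leaf 868)
 (Tr.leaf 13641))
 (Tr.node (Tr.leaf 3957)
 (Tr.leaf 37250))))
 (Tr.node (Tr.node (Tr.node (Tr.leaf 432)
 (Tr.leaf 9406))
 (Tr.node (Tr.leaf 1821)
 (Tr.leaf 37250)))
 (Tr.node (Tr.node (Tr.leaf 1366)
 (Tr.leaf 37250))
 (Tr.node (Tr.leaf 5139)
 (Tr.leaf 37250)))))
 (Tr.node (Tr.node (Tr.node (Tr.node (Tr.leaf 223)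
 (Tr.leaf 7614))
 (Tr.node (Tr.leaf 2504)
 (Tr.leaf 37250)))
 (Tr.node (Tr.node (Tr.leaf 1130)
 (Tr.leaf 20209))
 (Tr.node (Tr.leaf 4881)
 (Tr.leaf 37250))))
 (Tr.node (Tr.node (Tr.node (Tr.leaf 640)
 (Tr.leaf 12093))
 (Tr.node (Tr.leaf 3379)
 (Tr.leaf 37250)))
 (Tr.node (Tr.node (Tr.leaf 1727)
 (Tr.leaf 37250))
 (Tr.node (Tr.leaf 5870)
 (Tr.leaf 37250)))))))
 (Tr.node (Tr.node (Tr.node (Tr.node (Tr.node (Tr.node (Tr.leaf 42)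
 (Tr.leaf 6788))
 (Tr.node (Tr.leaf 2046)
 (Tr.leaf 37250)))
 (Tr.node (Tr.node (Tr.leaf 824)
 (Tr.leaf 13106))
 (Tr.node (Tr.leaf 3839)
 (Tr.leaf 37250))))
 (Tr.node (Tr.node (Tr.node (Tr.leaf 370)
 (Tr.leaf 8539))
 (Tr.node (Tr.leaf 2934)
 (Tr.leaf 37250)))
 (Tr.node (Tr.node (Tr.leaf 1279)
 (Tr.leaf 37250))
 (Tr.node (Tr.leaf 5037)
 (Tr.leaf 37250)))))
 (Tr.node (Tr.node (Tr.node (Tr.node (Tr.leaf 178)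
 (Tr.leaf 7518))
 (Tr.node (Tr.leaf 2395)
 (Tr.leaf 37250)))
 (Tr.node (Tr.node (Tr.leaf 1062)
 (Tr.leaf 18341))
 (Tr.node (Tr.leaf 4793)
 (Tr.leaf 37250))))
 (Tr.node (Tr.node (Tr.node (Tr.leaf 550)
 (Tr.leaf 11979))
 (Tr.node (Tr.leaf 3209)
 (Tr.leaf 37250)))
 (Tr.node (Tr.node (Tr.leaf 1666)
 (Tr.leaf 37250))
 (Tr.node (Tr.leaf 5786)
 (Tr.leaf 37250))))))
 (Tr.node (Tr.node (Tr.node (Tr.node (Tr.node (Tr.leaf 108)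
 (Tr.leaf 7246))
 (Tr.node (Tr.leaf 2195)
 (Tr.leaf 37250)))
 (Tr.node (Tr.node (Tr.leaf 933)
 (Tr.leaf 14495))
 (Tr.node (Tr.leaf 4174)
 (Tr.leaf 37250))))
 (Tr.node (Tr.node (Tr.node (Tr.leaf 476)
 (Tr.leaf 9764))
 (Tr.node (Tr.leaf 3067)
 (Tr.leaf 37250)))
 (Tr.node (Tr.node (Tr.leaf 1414)
 (Tr.leaf 37250))
 (Tr.node (Tr.leaf 5349)
 (Tr.leaf 37250)))))
 (Tr.node (Tr.node (Tr.node (Tr.node (Tr.leaf 288)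
 (Tr.leaf 7802))
 (Tr.node (Tr.leaf 2664)
 (Tr.leaf 37250)))
 (Tr.node (Tr.node (Tr.leaf 1197)
 (Tr.leaf 26108))
 (Tr.node (Tr.leaf 4928)
 (Tr.leaf 37250))))
 (Tr.node (Tr.node (Tr.node (Tr.leaf 258)
 (Tr.leaf 11142))
 (Tr.node (Tr.leaf 3444)
 (Tr.leaf 37250)))
 (Tr.node (Tr.node (Tr.leaf 1951)
 (Tr.leaf 37250))
 (Tr.node (Tr.leaf 6077)
 (Tr.leaf 37250)))))))))
 (Tr.node (Tr.node (Tr.node (Tr.node (Tr.node (Tr.node (Tr.node (Tr.node (Tr.leaf 9)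
 (Tr.leaf 6179))
 (Tr.node (Tr.leaf 1995)
 (Tr.leaf 37250)))
 (Tr.node (Tr.node (Tr.leaf 780)
 (Tr.leaf 12343))
 (Tr.node (Tr.leaf 3482)
 (Tr.leaf 37250))))
 (Tr.node (Tr.node (Tr.node (Tr.leaf 311)
 (Tr.leaf 8199))
 (Tr.node (Tr.leaf 2789)
 (Tr.leaf 37250)))
 (Tr.node (Tr.node (Tr.leaf 1233)
 (Tr.leaf 37250))
 (Tr.node (Tr.leaf 4991)
 (Tr.leaf 37250)))))
 (Tr.node (Tr.node (Tr.node (Tr.node (Tr.leaf 130)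
 (Tr.leaf 7408))
 (Tr.node (Tr.leaf 2227)
 (Tr.leaf 37250)))
 (Tr.node (Tr.node (Tr.leaf 980)
 (Tr.leaf 16413))
 (Tr.node (Tr.leaf 4270)
 (Tr.leaf 37250))))
 (Tr.node (Tr.node (Tr.node (Tr.leaf 499)
 (Tr.leaf 10421))
 (Tr.node (Tr.leaf 3102)
 (Tr.leaf 37250)))
 (Tr.node (Tr.node (Tr.leaf 1538)
 (Tr.leaf 37250))
 (Tr.node (Tr.leaf 5395)
 (Tr.leaf 37250))))))
 (Tr.node (Tr.node (Tr.node (Tr.node (Tr.node (Tr.leaf 62)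
 (Tr.leaf 7110))
 (Tr.node (Tr.leaf 2089)
 (Tr.leaf 37250)))
 (Tr.node (Tr.node (Tr.leaf 845)
 (Tr.leaf 13346))
 (Tr.node (Tr.leaf 3947)
 (Tr.leaf 37250))))
 (Tr.node (Tr.node (Tr.node (Tr.leaf 417)
 (Tr.leaf 8916))
 (Tr.node (Tr.leaf 2963)
 (Tr.leaf 37250)))
 (Tr.node (Tr.node (Tr.leaf 1323)
 (Tr.leaf 37250))
 (Tr.node (Tr.leaf 5127)
 (Tr.leaf 37250)))))
 (Tr.node (Tr.node (Tr.node (Tr.node (Tr.leaf 214)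
 (Tr.leaf 7590))
 (Tr.node (Tr.leaf 2488)
 (Tr.leaf 37250)))
 (Tr.node (Tr.node (Tr.leaf 1122)
 (Tr.leaf 19130))
 (Tr.node (Tr.leaf 4875)
 (Tr.leaf 37250))))
 (Tr.node (Tr.node (Tr.node (Tr.leaf 620)
 (Tr.leaf 12061))
 (Tr.node (Tr.leaf 3239)
 (Tr.leaf 37250)))
 (Tr.node (Tr.node (Tr.leaf 1712)
 (Tr.leaf 37250))
 (Tr.node (Tr.leaf 5858)
 (Tr.leaf 37250)))))))
 (Tr.node (Tr.node (Tr.node (Tr.node (Tr.node (Tr.node (Tr.leaf 13)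
 (Tr.leaf 6774))
 (Tr.node (Tr.leaf 2034)
 (Tr.leaf 37250)))
 (Tr.node (Tr.node (Tr.leaf 816)
 (Tr.leaf 13016))
 (Tr.node (Tr.leaf 3662)
 (Tr.leaf 37250))))
 (Tr.node (Tr.node (Tr.node (Tr.leaf 364)
 (Tr.leaf 8427))
 (Tr.node (Tr.leaf 2928)
 (Tr.leaf 37250)))
 (Tr.node (Tr.node (Tr.leaf 1273)
 (Tr.leaf 37250))
 (Tr.node (Tr.leaf 5019)
 (Tr.leaf 37250)))))
 (Tr.node (Tr.node (Tr.node (Tr.node (Tr.leaf 171)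
 (Tr.leaf 7492))
 (Tr.node (Tr.leaf 2388)
 (Tr.leaf 37250)))
 (Tr.node (Tr.node (Tr.leaf 1048)
 (Tr.leaf 18266))
 (Tr.node (Tr.leaf 1921)
 (Tr.leaf 37250))))
 (Tr.node (Tr.node (Tr.node (Tr.leaf 536)
 (Tr.leaf 11834))
 (Tr.node (Tr.leaf 3162)
 (Tr.leaf 37250)))
 (Tr.node (Tr.node (Tr.leaf 1615)
 (Tr.leaf 37250))
 (Tr.node (Tr.leaf 5579)
 (Tr.leaf 37250))))))
 (Tr.node (Tr.node (Tr.node (Tr.node (Tr.node (Tr.leaf 36)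
 (Tr.leaf 7234))
 (Tr.node (Tr.leaf 2183)
 (Tr.leaf 37250)))
 (Tr.node (Tr.node (Tr.leaf 896)
 (Tr.leaf 14439))
 (Tr.node (Tr.leaf 4118)
 (Tr.leaf 37250))))
 (Tr.node (Tr.node (Tr.node (Tr.leaf 467)
 (Tr.leaf 9691))
 (Tr.node (Tr.leaf 3047)
 (Tr.leaf 37250)))
 (Tr.node (Tr.node (Tr.leaf 1398)
 (Tr.leaf 37250))
 (Tr.node (Tr.leaf 5327)
 (Tr.leaf 37250)))))
 (Tr.node (Tr.node (Tr.node (Tr.node (Tr.leaf 98)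
 (Tr.leaf 7778))
 (Tr.node (Tr.leaf 2637)
 (Tr.leaf 37250)))
 (Tr.node (Tr.node (Tr.leaf 1190)
 (Tr.leaf 23905))
 (Tr.node (Tr.leaf 4922)
 (Tr.leaf 37250))))
 (Tr.node (Tr.node (Tr.node (Tr.leaf 669)
 (Tr.leaf 12249))
 (Tr.node (Tr.leaf 3428)
 (Tr.leaf 37250)))
 (Tr.node (Tr.node (Tr.leaf 759)
 (Tr.leaf 37250))
 (Tr.node (Tr.leaf 6037)
 (Tr.leaf 37250))))))))
 (Tr.node (Tr.node (Tr.node (Tr.node (Tr.node (Tr.node (Tr.node (Tr.leaf 23)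
 (Tr.leaf 6606))
 (Tr.node (Tr.leaf 2007)
 (Tr.leaf 37250)))
 (Tr.node (Tr.node (Tr.leaf 802)
 (Tr.leaf 12544))
 (Tr.node (Tr.leaf 3526)
 (Tr.leaf 37250))))
 (Tr.node (Tr.node (Tr.node (Tr.leaf 343)
 (Tr.leaf 8381))
 (Tr.node (Tr.leaf 2809)
 (Tr.leaf 37250)))
 (Tr.node (Tr.node (Tr.leaf 1254)
 (Tr.leaf 37250))
 (Tr.node (Tr.leaf 5005)
 (Tr.leaf 37250)))))
 (Tr.node (Tr.node (Tr.node (Tr.node (Tr.leaf 150)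
 (Tr.leaf 7458))
 (Tr.node (Tr.leaf 2279)
 (Tr.leaf 37250)))
 (Tr.node (Tr.node (Tr.leaf 994)
 (Tr.leaf 17504))
 (Tr.node (Tr.leaf 1848)
 (Tr.leaf 37250))))
 (Tr.node (Tr.node (Tr.node (Tr.leaf 522)
 (Tr.leaf 4572))
 (Tr.node (Tr.leaf 3118)
 (Tr.leaf 37250)))
 (Tr.node (Tr.node (Tr.leaf 1588)
 (Tr.leaf 37250))
 (Tr.node (Tr.leaf 5439)
 (Tr.leaf 37250))))))
 (Tr.node (Tr.node (Tr.node (Tr.node (Tr.node (Tr.leaf 78)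
 (Tr.leaf 7138))
 (Tr.node (Tr.leaf 2115)
 (Tr.leaf 37250)))
 (Tr.node (Tr.node (Tr.leaf 876)
 (Tr.leaf 13712))
 (Tr.node (Tr.leaf 3983)
 (Tr.leaf 37250))))
 (Tr.node (Tr.node (Tr.node (Tr.leaf 446)
 (Tr.leaf 9426))
 (Tr.node (Tr.leaf 3000)
 (Tr.leaf 37250)))
 (Tr.node (Tr.node (Tr.leaf 1378)
 (Tr.leaf 37250))
 (Tr.node (Tr.leaf 5303)
 (Tr.leaf 37250)))))
 (Tr.node (Tr.node (Tr.node (Tr.node (Tr.leaf 234)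
 (Tr.leaf 7651))
 (Tr.node (Tr.leaf 2512)
 (Tr.leaf 37250)))
 (Tr.node (Tr.node (Tr.leaf 1163)
 (Tr.leaf 21042))
 (Tr.node (Tr.leaf 4891)
 (Tr.leaf 37250))))
 (Tr.node (Tr.node (Tr.node (Tr.leaf 655)
 (Tr.leaf 12111))
 (Tr.node (Tr.leaf 3387)
 (Tr.leaf 37250)))
 (Tr.node (Tr.node (Tr.leaf 705)
 (Tr.leaf 37250))
 (Tr.node (Tr.leaf 5889)
 (Tr.leaf 37250)))))))
 (Tr.node (Tr.node (Tr.node (Tr.node (Tr.node (Tr.node (Tr.leaf 48)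
 (Tr.leaf 6826))
 (Tr.node (Tr.leaf 2052)
 (Tr.leaf 37250)))
 (Tr.node (Tr.node (Tr.leaf 829)
 (Tr.leaf 13190))
 (Tr.node (Tr.leaf 3845)
 (Tr.leaf 37250))))
 (Tr.node (Tr.node (Tr.node (Tr.leaf 394)
 (Tr.leaf 8810))
 (Tr.node (Tr.leaf 2943)
 (Tr.leaf 37250)))
 (Tr.node (Tr.node (Tr.leaf 1298)
 (Tr.leaf 37250))
 (Tr.node (Tr.leaf 5109)
 (Tr.leaf 37250)))))
 (Tr.node (Tr.node (Tr.node (Tr.node (Tr.leaf 183)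
 (Tr.leaf 7526))
 (Tr.node (Tr.leaf 2408)
 (Tr.leaf 37250)))
 (Tr.node (Tr.node (Tr.leaf 1087)
 (Tr.leaf 18453))
 (Tr.node (Tr.leaf 4807)
 (Tr.leaf 37250))))
 (Tr.node (Tr.node (Tr.node (Tr.leaf 589)
 (Tr.leaf 11998))
 (Tr.node (Tr.leaf 3215)
 (Tr.leaf 37250)))
 (Tr.node (Tr.node (Tr.leaf 1688)
 (Tr.leaf 37250))
 (Tr.node (Tr.leaf 5792)
 (Tr.leaf 37250))))))
 (Tr.node (Tr.node (Tr.node (Tr.node (Tr.node (Tr.leaf 113)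
 (Tr.leaf 7258))
 (Tr.node (Tr.leaf 2205)
 (Tr.leaf 37250)))
 (Tr.node (Tr.node (Tr.leaf 947)
 (Tr.leaf 14885))
 (Tr.node (Tr.leaf 4188)
 (Tr.leaf 37250))))
 (Tr.node (Tr.node (Tr.node (Tr.leaf 484)
 (Tr.leaf 9887))
 (Tr.node (Tr.leaf 3087)
 (Tr.leaf 37250)))
 (Tr.node (Tr.node (Tr.leaf 742)
 (Tr.leaf 37250))
 (Tr.node (Tr.leaf 5365)
 (Tr.leaf 37250)))))
 (Tr.node (Tr.node (Tr.node (Tr.node (Tr.leaf 299)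
 (Tr.leaf 7927))
 (Tr.node (Tr.leaf 2690)
 (Tr.leaf 37250)))
 (Tr.node (Tr.node (Tr.leaf 1209)
 (Tr.leaf 37250))
 (Tr.node (Tr.leaf 4957)
 (Tr.leaf 37250))))
 (Tr.node (Tr.node (Tr.node (Tr.leaf 270)
 (Tr.leaf 12293))
 (Tr.node (Tr.leaf 3458)
 (Tr.leaf 37250)))
 (Tr.node (Tr.node (Tr.leaf 1959)
 (Tr.leaf 37250))
 (Tr.node (Tr.leaf 6091)
 (Tr.leaf 37250))))))))))))

/-- The point of a letter. -/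
noncomputable def lam : Nat → Nat := lamT.get

/-- The compatibility of the tables. -/
noncomputable def chkLam : Bool :=
  (List.range 1408).all fun i => Nat.blt (lam i) pt.n && (List.range 5).all fun c =>
    Nat.blt (ptL.T c i) 1408 && Nat.beq (lam (ptL.T c i)) (pt.T c (lam i))

theorem hlam : chkLam = true := by decide +kernel

theorem hlam0 : lam 0 = pt.T 5 0 := by decide +kernel

theorem hfix0 : (List.range 5).all (fun c => Nat.beq (pt.T c 0) 0) = true := by decide +kernel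

/-- The word `c`. -/
def CWd : List Nat := [2,2,0,3,0,3,0,2,2,0,3,3,1,2,1,2,1,3,3,1]

theorem hfixc : (List.range 1408).all (fun i => Nat.beq (ptL.val CWd i) i) = true := by decide +kernel

end Cfsg.Agent.Lib.TC.D.HNL.Lam
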