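import Cfsg.Agent.Lib.TC.D.HNC.Ord0
import Cfsg.Agent.Lib.TC.D.HNL.Lam
import Cfsg.Agent.Lib.TC.D.HNL.Kt
import Cfsg.Agent.Lib.TC.D.HNL.C0
import Cfsg.Agent.Lib.TC.D.HNL.C1
import Cfsg.Agent.Lib.TC.D.HNL.C2
import Cfsg.Agent.Lib.TC.D.HNL.C3
import Cfsg.Agent.Lib.TC.D.HNL.C4
import Cfsg.Agent.Lib.TC.D.HNL.C5
import Cfsg.Agent.Lib.TC.D.HNL.C6
import Cfsg.Agent.Lib.TC.D.HNL.C7
import Cfsg.Agent.Lib.TC.D.HNL.C8

/-!
# The index of the subgroup generated by the first three generators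
-/

namespace Cfsg.Agent.Lib.TC.D.HNL.Main

open Cfsg.Agent.Lib.TC.Core Cfsg.Agent.Lib.TC.Enc Cfsg.Agent.Lib.TC.Pres Cfsg.Agent.Lib.TC.Perm
  Cfsg.Agent.Lib.TC.Main Cfsg.Agent.Lib.TC.Chain Cfsg.Agent.Lib.TC.Chain.PermLev
  Cfsg.Agent.Lib.TC.G.HN Cfsg.Agent.Lib.TC.HNA Cfsg.Agent.Lib.TC.D.HNO.Tab
  Cfsg.Agent.Lib.TC.D.HND.Sys Cfsg.Agent.Lib.TC.D.HNL.Defs Cfsg.Agent.Lib.TC.D.HNL.Lam
  Cfsg.Agent.Lib.TC.D.HNL.Kt Cfsg.Agent.Lib.TC.D.HNC.Ord

set_option maxRecDepth 100000

instance : NeZero pt.n := ⟨by decide⟩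

theorem lam_spec {i : Nat} (hi : i < 1408) :
    lam i < pt.n ∧ ∀ c, c < 5 → ptL.T c i < 1408 ∧ lam (ptL.T c i) = pt.T c (lam i) := by
  have h := hlam
  simp only [chkLam, List.all_eq_true, Bool.and_eq_true, List.mem_range] at h
  obtain ⟨h1, h2⟩ := h i hi
  refine ⟨Nat.le_of_ble_eq_true h1, fun c hc => ?_⟩
  obtain ⟨h3, h4⟩ := h2 c hc
  exact ⟨Nat.le_of_ble_eq_true h3, Nat.eq_of_beq_eq_true h4⟩

theorem val_spec (w : List Nat) (hw : ∀ z ∈ w, z < 5) (i : Nat) (hi : i < 1408) :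
    ptL.val w i < 1408 ∧ lam (ptL.val w i) = pt.val w (lam i) := by
  induction w generalizing i with
  | nil => exact ⟨hi, rfl⟩
  | cons z w ih =>
    obtain ⟨h1, h2⟩ := (lam_spec hi).2 z (hw z (by simp))
    obtain ⟨h3, h4⟩ := ih (fun y hy => hw y (by simp [hy])) _ h1
    refine ⟨h3, ?_⟩
    change lam (ptL.val w (ptL.T z i)) = pt.val w (pt.T z (lam i))
    rw [h4, h2]

theorem kword (g : PresentedGroup Rel) (hg : g ∈ KK) :
    ∃ w : List Nat, (∀ z ∈ w, z < 5) ∧ prodA e w = g := by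
  have hinv : ∀ c ∈ ([0,1,2,3,4] : List Nat), ∃ c' ∈ ([0,1,2,3,4] : List Nat), e c' = (e c)⁻¹ := by
    intro c hc
    simp only [List.mem_cons, List.not_mem_nil, or_false] at hc
    rcases hc with rfl | rfl | rfl | rfl | rfl
    · exact ⟨1, by decide, e1⟩
    · exact ⟨0, by decide, by rw [e1, inv_inv]⟩
    · exact ⟨3, by decide, e3⟩
    · exact ⟨2, by decide, by rw [e3, inv_inv]⟩
    · exact ⟨4, by decide, e4⟩
  obtain ⟨w, hw, h⟩ := exists_word e _ hinv g hg
  refine ⟨w, fun z hz => ?_, h⟩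
  have := hw z hz
  simp only [List.mem_cons, List.not_mem_nil, or_false] at this
  omega

theorem word_mem (w : List Nat) (hw : ∀ z ∈ w, z < 5) : prodA e w ∈ KK := by
  apply prodA_mem_Lt
  intro z hz
  have := hw z hz
  simp only [List.mem_cons, List.not_mem_nil, or_false]
  omega

theorem e_mem {c : Nat} (hc : c < 5) : e c ∈ KK := by
  apply Subgroup.subset_closure
  refine ⟨c, ?_, rfl⟩
  simp only [Set.mem_setOf_eq, List.mem_cons, List.not_mem_nil, or_false]
  omega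

theorem val_zero (w : List Nat) (hw : ∀ z ∈ w, z < 5) : pt.val w 0 = 0 := by
  induction w with
  | nil => rfl
  | cons z w ih =>
    have h := hfix0
    simp only [List.all_eq_true, List.mem_range] at h
    have h2 : pt.T z 0 = 0 := Nat.eq_of_beq_eq_true (h z (hw z (by simp)))
    change pt.val w (pt.T z 0) = 0
    rw [h2]
    exact ih fun y hy => hw y (by simp [hy])

/-- The relator for the sign. -/
def R9 : List Nat :=
  [0,2,0,2,0,2,2,2,4,3,3,3,1,3,1,3,0,2,0,2,0,2,2,2,4,3,3,3,1,3,1,3,0,2,0,2,0,2,2,2,4,3,3,3,1,3,1,3,4]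

/-- The exponent lemma. -/
theorem exp_conj (w : List Nat) (hw : ∀ z ∈ w, z < 4) :
    prodA e w * e 5 * (prodA e w)⁻¹ = e 5 ^ expOf w := by
  induction w with
  | nil => simp [expOf]
  | cons z l ih =>
    have ih' := ih fun y hy => hw y (by simp [hy])
    have hz := hw z (by simp)
    have hstep : e z * e 5 * (e z)⁻¹ = e 5 ^ (([2,3,1,1] : List Nat).getD z 0) := by
      interval_cases z
      · exact conj0
      · exact conj1
      · simpa using conj2
      · simpa using conj3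
    have h5 := t5
    calc prodA e (z :: l) * e 5 * (prodA e (z :: l))⁻¹
        = prodA e l * (e z * e 5 * (e z)⁻¹) * (prodA e l)⁻¹ := by
          rw [prodA_cons]
          group
      _ = (prodA e l * e 5 * (prodA e l)⁻¹) ^ (([2,3,1,1] : List Nat).getD z 0) := by
          rw [hstep, conj_pow]
      _ = e 5 ^ (expOf l * ([2,3,1,1] : List Nat).getD z 0) := by
          rw [ih', pow_mul]
      _ = e 5 ^ expOf (z :: l) := by
          rw [expOf]
          exact pow_eq_pow_mod _ h5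

theorem hb0 : (basesOf C0.cl.levs).all (fun b => (List.range 1408).any fun i => Nat.beq b (lam i)) = true := by
  decide +kernel

/-- The first level of the class of the subgroup. -/
noncomputable def lv0 : Lev := C0.levs.headD ⟨0, [], []⟩

theorem hlv0 : levOK pt [] lv0 = true := by decide +kernel

theorem hlv0p : lv0.p = lam 0 := by decide +kernel

theorem hlv0t : lv0.tree.length = 1407 := by decide +kernel

theorem hlv0w : (lv0.words.all fun w => wLt w) = true := by decide +kernel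

section main

variable (φ : PresentedGroup Rel →* Equiv.Perm (Fin pt.n))

/-- The point of the letter `t`. -/
noncomputable def p0 : Fin pt.n := ⟨lam 0, (lam_spec (by norm_num)).1⟩

/-- The points of the letters. -/
def OO : Set (Fin pt.n) := {b | ∃ i, i < 1408 ∧ b.1 = lam i}

/-- The elements of the subgroup that fix all the points of the letters. -/
def NN : Subgroup (PresentedGroup Rel) where
  carrier := {g | g ∈ KK ∧ ∀ b ∈ OO, φ g b = b}
  mul_mem' := by
    rintro a c ⟨h1, h2⟩ ⟨h3, h4⟩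
    refine ⟨KK.mul_mem h1 h3, fun b hb => ?_⟩
    rw [map_mul, Equiv.Perm.mul_apply, h4 b hb, h2 b hb]
  one_mem' := ⟨KK.one_mem, fun _ _ => by simp⟩
  inv_mem' := by
    rintro a ⟨h1, h2⟩
    refine ⟨KK.inv_mem h1, fun b hb => ?_⟩
    rw [map_inv, Equiv.Perm.inv_eq_iff_eq]
    exact (h2 b hb).symm

/-- The elements of the subgroup that commute with `t`. -/
noncomputable def KT : Subgroup (PresentedGroup Rel) where
  carrier := {g | g ∈ KK ∧ g * e 5 = e 5 * g}
  mul_mem' := by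
    rintro a c ⟨h1, h2⟩ ⟨h3, h4⟩
    refine ⟨KK.mul_mem h1 h3, ?_⟩
    rw [mul_assoc, h4, ← mul_assoc, h2, mul_assoc]
  one_mem' := ⟨KK.one_mem, by simp⟩
  inv_mem' := by
    rintro a ⟨h1, h2⟩
    refine ⟨KK.inv_mem h1, ?_⟩
    calc a⁻¹ * e 5 = a⁻¹ * (e 5 * a) * a⁻¹ := by group
      _ = a⁻¹ * (a * e 5) * a⁻¹ := by rw [h2]
      _ = e 5 * a⁻¹ := by group

/-- A letter. -/
noncomputable def ell (i : Nat) : PresentedGroup Rel := by
  classical
  exact if h : ∃ g, g ∈ KK ∧ (φ g (p0)).1 = lam i then h.choose * e 5 * h.choose⁻¹ else 1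

variable (hval : ∀ l : List Nat, (∀ z ∈ l, z < pt.k) → ∀ i : Fin pt.n, (φ (prodA e l) i).1 = pt.val l i.1)

include hval

theorem hval5 (l : List Nat) (hl : ∀ z ∈ l, z < 5) (i : Fin pt.n) :
    (φ (prodA e l) i).1 = pt.val l i.1 :=
  hval l (fun z hz => by
    have := hl z hz
    change z < 7
    omega) i

theorem fix_zero (g : PresentedGroup Rel) (hg : g ∈ KK) : φ g 0 = 0 := by
  obtain ⟨w, hw, rfl⟩ := kword g hg
  apply Fin.ext
  rw [hval5 φ hval w hw]
  exact val_zero w hw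

theorem OO_inv (g : PresentedGroup Rel) (hg : g ∈ KK) (b : Fin pt.n) (hb : b ∈ OO) : φ g b ∈ OO := by
  obtain ⟨w, hw, rfl⟩ := kword g hg
  obtain ⟨i, hi, hbi⟩ := hb
  refine ⟨ptL.val w i, (val_spec w hw i hi).1, ?_⟩
  rw [hval5 φ hval w hw, hbi, (val_spec w hw i hi).2]

theorem NN_norm (g : PresentedGroup Rel) (hg : g ∈ KK) (n : PresentedGroup Rel) (hn : n ∈ NN φ) :
    g * n * g⁻¹ ∈ NN φ := by
  refine ⟨KK.mul_mem (KK.mul_mem hg hn.1) (KK.inv_mem hg), fun b hb => ?_⟩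
  have h1 := OO_inv φ hval g⁻¹ (KK.inv_mem hg) b hb
  have h2 := hn.2 _ h1
  rw [map_mul, map_mul, Equiv.Perm.mul_apply, Equiv.Perm.mul_apply, h2]
  simp

omit hval in
theorem cl_words {c : Cl} (hc : chkCl c = true) : ∀ lv ∈ c.levs, ∀ w ∈ lv.words, stOK c.W w = true := by
  simp only [chkCl, Bool.and_eq_true, List.all_eq_true] at hc
  exact hc.1.1.1

omit hval in
theorem stOK_wLt {W w : List Nat} (h : stOK W w = true) : ∀ z ∈ w, z < 5 := by
  simp only [stOK, Bool.and_eq_true] at h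
  exact wLt_spec h.1

theorem card_NN (hK : Nat.card KK ≠ 0 ∧ Nat.card KK ≤ 3 * 177408000) : Nat.card (NN φ) ≤ 3 := by
  have : Finite KK := Nat.finite_of_card_ne_zero hK.1
  have hS : ∀ lv ∈ C0.cl.levs, ∀ w ∈ lv.words, prodA e w ∈ KK := fun lv hlv w hw =>
    word_mem w (stOK_wLt (cl_words C0.hchk lv hlv w hw))
  have h1 := levsOK_specG hval KK C0.cl.levs [] C0.hlev hS
  rw [KG_nil] at h1
  have hprod : prodM C0.cl.levs = 177408000 := by decide +kernel
  rw [hprod] at h1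
  have hle : NN φ ≤ KG φ KK (basesOf C0.cl.levs ++ []) := by
    intro g hg
    refine ⟨hg.1, fun b hb => hg.2 b ?_⟩
    rw [List.append_nil] at hb
    have h2 := List.all_eq_true.1 hb0 b.1 hb
    obtain ⟨i, hi, h3⟩ := List.any_eq_true.1 h2
    exact ⟨i, List.mem_range.1 hi, Nat.eq_of_beq_eq_true h3⟩
  have hfin : Finite (KG φ KK (basesOf C0.cl.levs ++ [])) :=
    Finite.of_injective (fun x => (⟨x.1, KG_le φ KK _ x.2⟩ : KK)) (by
      intro a b hab
      apply Subtype.ext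
      simpa using congrArg Subtype.val hab)
  have h2 := Subgroup.card_le_of_le hle
  have h3 := hK.2
  generalize Nat.card KK = a at h1 h3
  generalize Nat.card (KG φ KK (basesOf C0.cl.levs ++ [])) = b at h1 h2
  generalize Nat.card (NN φ) = c at h2 ⊢
  omega

theorem cc_NN : cc ∈ NN φ := by
  have hCW : ∀ z ∈ CW, z < 5 := by decide
  refine ⟨word_mem CW hCW, fun b hb => ?_⟩
  obtain ⟨i, hi, hbi⟩ := hb
  apply Fin.ext
  rw [cc, hval5 φ hval CW hCW, hbi]
  have h1 := (val_spec CW hCW i hi).2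
  rw [← h1]
  have h2 := hfixc
  simp only [List.all_eq_true, List.mem_range] at h2
  have h3 : ptL.val CWd i = i := Nat.eq_of_beq_eq_true (h2 i hi)
  have h4 : CW = CWd := rfl
  rw [h4, h3]

/-- The square of `c` is trivial. -/
theorem hcc (hK : Nat.card KK ≠ 0 ∧ Nat.card KK ≤ 3 * 177408000) : cc * cc = 1 := by
  by_contra hne
  have hfK : Finite KK := Nat.finite_of_card_ne_zero hK.1
  have hfN : Finite (NN φ) :=
    Finite.of_injective (fun x => (⟨x.1, x.2.1⟩ : KK)) (by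
      intro a b hab
      apply Subtype.ext
      simpa using congrArg Subtype.val hab)
  obtain ⟨s, hs⟩ := exists_sign KK (NN φ) (card_NN φ hval hK) (NN_norm φ hval) cc (e 0)
    (cc_NN φ hval) hne (e_mem (by norm_num)) x_inv_cc
  have hr : prodA e R9 = 1 := rone (by decide)
  have hR9 : ∀ z ∈ R9, z < 5 := by decide
  have hmap : R9.map (fun z => ([0,1,2,3,4] : List Nat).getD z 0) = R9 := by decide
  have hR9' : ∀ z ∈ R9, z < ([0,1,2,3,4] : List Nat).length := hR9
  have h4 : prodA (stageE e [0,1,2,3,4]) R9 = 1 := by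
    apply Subtype.ext
    rw [stage_prodA e _ R9 hR9', hmap, hr]
    rfl
  have h5 := map_prodA s (stageE e [0,1,2,3,4]) (fun c => s (stageE e [0,1,2,3,4] c)) 5 (fun _ _ => rfl) R9 hR9
  rw [h4, map_one] at h5
  have f0 : s (stageE e [0,1,2,3,4] 0) = -1 := by
    rw [← hs]
    congr 1
  have f1 : s (stageE e [0,1,2,3,4] 1) = -1 := by
    have h6 : stageE e [0,1,2,3,4] 1 = (stageE e [0,1,2,3,4] 0)⁻¹ := by
      apply Subtype.ext
      rw [Subgroup.coe_inv, stageE_coe e _ (by decide), stageE_coe e _ (by decide)]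
      exact e1
    rw [h6, map_inv, f0]
    decide
  have f3 : s (stageE e [0,1,2,3,4] 3) = (s (stageE e [0,1,2,3,4] 2))⁻¹ := by
    have h6 : stageE e [0,1,2,3,4] 3 = (stageE e [0,1,2,3,4] 2)⁻¹ := by
      apply Subtype.ext
      rw [Subgroup.coe_inv, stageE_coe e _ (by decide), stageE_coe e _ (by decide)]
      exact e3
    rw [h6, map_inv]
  rcases Int.units_eq_one_or (s (stageE e [0,1,2,3,4] 2)) with hb | hb <;>
  rcases Int.units_eq_one_or (s (stageE e [0,1,2,3,4] 4)) with hd | hd <;>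
  · rw [hb] at f3
    simp only [R9, prodA_cons, prodA_nil, one_mul, f0, f1, f3, hb, hd] at h5
    exact absurd h5 (by decide)

theorem KT_le : KT ≤ KG φ KK [lam 0] := by
  rintro g ⟨h1, h2⟩
  refine ⟨h1, fun b hb => ?_⟩
  simp only [List.mem_singleton] at hb
  have hp : (φ (e 5) 0).1 = lam 0 := by
    have h5 : ∀ z ∈ ([5] : List Nat), z < pt.k := by
      intro z hz
      simp only [List.mem_singleton] at hz
      rw [hz]
      decide
    have h6 := hval [5] h5 0
    have h7 : prodA e [5] = e 5 := by simp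
    rw [h7] at h6
    rw [h6, hlam0]
    rfl
  have hb' : b = φ (e 5) 0 := Fin.ext (by rw [hb, hp])
  rw [hb', ← Equiv.Perm.mul_apply, ← map_mul, h2, map_mul, Equiv.Perm.mul_apply,
    fix_zero φ hval g h1]

/-- The stabilizer of the point of `t` commutes with `t`. -/
theorem hstab (hK : Nat.card KK ≠ 0 ∧ Nat.card KK ≤ 177408000) (g : PresentedGroup Rel) (hg : g ∈ KK)
    (hfix : φ g p0 = p0) : g * e 5 = e 5 * g := by
  have hfK : Finite KK := Nat.finite_of_card_ne_zero hK.1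
  have hfS : Finite (KG φ KK [lam 0]) :=
    Finite.of_injective (fun x => (⟨x.1, KG_le φ KK _ x.2⟩ : KK)) (by
      intro a b hab
      apply Subtype.ext
      simpa using congrArg Subtype.val hab)
  have hfT : Finite KT :=
    Finite.of_injective (fun x => (⟨x.1, x.2.1⟩ : KK)) (by
      intro a b hab
      apply Subtype.ext
      simpa using congrArg Subtype.val hab)
  have hwords : ∀ lv ∈ levsK, ∀ w ∈ lv.words, prodA e w ∈ KT := by
    intro lv hlv w hw
    have h1 := hexpK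
    simp only [List.all_eq_true, Bool.and_eq_true] at h1
    obtain ⟨h2, h3⟩ := h1 lv hlv w hw
    have h4 : ∀ z ∈ w, z < 4 := fun z hz => Nat.le_of_ble_eq_true (h2 z hz)
    have h5 : expOf w = 1 := Nat.eq_of_beq_eq_true h3
    refine ⟨word_mem w fun z hz => by have := h4 z hz; omega, ?_⟩
    have h6 := exp_conj w h4
    rw [h5, pow_one] at h6
    exact mul_inv_eq_iff_eq_mul.1 h6
  have h1 := prodM_le_card hval KT levsK hlevK hwords
  rw [hprodK] at h1
  have hwK : ∀ w ∈ lv0.words, prodA e w ∈ KK := by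
    intro w hw
    have h2 := List.all_eq_true.1 hlv0w w hw
    exact word_mem w (wLt_spec h2)
  obtain ⟨_, h2⟩ := levOK_specG hval KK hwK hlv0
  rw [KG_nil, hlv0t, hlv0p] at h2
  have h3 : KT = KG φ KK [lam 0] := by
    apply Subgroup.eq_of_le_of_card_ge (KT_le φ hval)
    have h4 := hK.2
    generalize Nat.card KK = a at h2 h4
    generalize Nat.card (KG φ KK [lam 0]) = b at h2 ⊢
    generalize Nat.card KT = c at h1 ⊢
    omega
  have h5 : g ∈ KG φ KK [lam 0] := by
    refine ⟨hg, fun b hb => ?_⟩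
    simp only [List.mem_singleton] at hb
    have hb' : b = p0 := Fin.ext hb
    rw [hb']
    exact hfix
  rw [← h3] at h5
  exact h5.2

theorem ell_eq (hst : ∀ g ∈ KK, φ g p0 = p0 → g * e 5 = e 5 * g) (g : PresentedGroup Rel) (hg : g ∈ KK)
    (i : Nat) (hi : (φ g p0).1 = lam i) : ell φ i = g * e 5 * g⁻¹ := by
  have hex : ∃ g, g ∈ KK ∧ (φ g p0).1 = lam i := ⟨g, hg, hi⟩
  have h1 : ell φ i = hex.choose * e 5 * hex.choose⁻¹ := dif_pos hex
  rw [h1]
  obtain ⟨h2, h3⟩ := hex.choose_spec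
  generalize hex.choose = g' at h2 h3
  have hs : g⁻¹ * g' ∈ KK := KK.mul_mem (KK.inv_mem hg) h2
  have hfx : φ (g⁻¹ * g') p0 = p0 := by
    rw [map_mul, Equiv.Perm.mul_apply, map_inv, Equiv.Perm.inv_eq_iff_eq]
    apply Fin.ext
    rw [h3, hi]
  have h4 := hst _ hs hfx
  have h5 : g' = g * (g⁻¹ * g') := by group
  generalize g⁻¹ * g' = s at h4 h5
  rw [h5]
  calc g * s * e 5 * (g * s)⁻¹ = g * (s * e 5) * s⁻¹ * g⁻¹ := by group
    _ = g * (e 5 * s) * s⁻¹ * g⁻¹ := by rw [h4]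
    _ = _ := by group

theorem reach (i : Nat) (hi : i < 1408) : ∃ g, g ∈ KK ∧ (φ g p0).1 = lam i := by
  have hc := C0.hchk
  simp only [chkCl, Bool.and_eq_true, List.all_eq_true] at hc
  obtain ⟨⟨⟨_, h2⟩, _⟩, h4⟩ := hc
  simp only [covOK, Bool.and_eq_true, List.all_eq_true, Bool.or_eq_true, List.any_eq_true] at h4
  obtain ⟨⟨_, h5⟩, h6⟩ := h4
  let Q : Nat → Prop := fun a => a < 1408 ∧ ∃ g, g ∈ KK ∧ (φ g p0).1 = lam a
  have hroot : ∀ r ∈ C0.cl.roots, Q r := by
    intro r hr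
    have hr0 : r = 0 := by
      have : C0.cl.roots = [0] := by decide
      rw [this] at hr
      simpa using hr
    subst hr0
    exact ⟨by norm_num, 1, KK.one_mem, by simp [p0]⟩
  have hQ : ∀ w ∈ C0.cl.gens, ∀ j, Q j → Q (ptL.val w j) := by
    rintro w hw j ⟨hj, g, hg, hgj⟩
    have hw5 := stOK_wLt (h2 w hw)
    obtain ⟨h7, h8⟩ := val_spec w hw5 j hj
    refine ⟨h7, prodA e w * g, KK.mul_mem (word_mem w hw5) hg, ?_⟩
    rw [map_mul, Equiv.Perm.mul_apply, hval5 φ hval w hw5, hgj, h8]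
  have hall := levGo_mem Q hQ C0.cl.tr (maskOf C0.cl.roots) (fun j hj => hroot j (bit_maskOf hj)) h5
  rcases h6 i (List.mem_range.2 hi) with h7 | ⟨x, hx, h7⟩
  · exact (hroot i (List.contains_iff_mem.1 h7)).2
  · have h8 : x.1 = i := Nat.eq_of_beq_eq_true h7
    have := hall x hx
    rw [h8] at this
    exact this.2

theorem ctx (hK : Nat.card KK ≠ 0 ∧ Nat.card KK ≤ 177408000) : LetCtx KK e (ell φ) := by
  have hst : ∀ g ∈ KK, φ g p0 = p0 → g * e 5 = e 5 * g := fun g hg h => hstab φ hval hK g hg h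
  have hell : ∀ w : List Nat, (∀ z ∈ w, z < 5) → ∀ i, i < 1408 →
      ptL.val w i < 1408 ∧ ell φ (ptL.val w i) = prodA e w * ell φ i * (prodA e w)⁻¹ := by
    intro w hw i hi
    obtain ⟨h1, h2⟩ := val_spec w hw i hi
    refine ⟨h1, ?_⟩
    obtain ⟨g, hg, hgi⟩ := reach φ hval i hi
    rw [ell_eq φ hval hst g hg i hgi,
      ell_eq φ hval hst (prodA e w * g) (KK.mul_mem (word_mem w hw) hg) _ (by
        rw [map_mul, Equiv.Perm.mul_apply, hval5 φ hval w hw, hgi, h2])]
    group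
  have hl0 : ell φ 0 = e 5 := by
    have := ell_eq φ hval hst 1 KK.one_mem 0 (by simp [p0])
    simpa using this
  have hl1 : ell φ 1 = e 5 ^ 2 := by
    have h := (hell [0] (by decide) 0 (by norm_num)).2
    have h2 : ptL.val [0] 0 = 1 := by decide +kernel
    rw [h2, hl0] at h
    rw [h]
    simpa using conj0
  have hl2 : ell φ 2 = e 5 ^ 3 := by
    have h := (hell [1] (by decide) 0 (by norm_num)).2
    have h2 : ptL.val [1] 0 = 2 := by decide +kernel
    rw [h2, hl0] at h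
    rw [h]
    simpa using conj1
  have hl4 : ell φ 4 = e 5 ^ 4 := by
    have h := (hell [1] (by decide) 2 (by norm_num)).2
    have h2 : ptL.val [1] 2 = 4 := by decide +kernel
    rw [h2, hl2] at h
    rw [h]
    have h3 : prodA e [1] = e 1 := by simp
    rw [h3, ← conj_pow, conj1, ← pow_mul]
    calc e 5 ^ (3 * 3) = e 5 ^ 5 * e 5 ^ 4 := by rw [← pow_add]
      _ = e 5 ^ 4 := by rw [t5, one_mul]
  have hlz : ell φ q0 = e 4 * e 5 * (e 4)⁻¹ := by
    have h := (hell [4] (by decide) 0 (by norm_num)).2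
    have h2 : ptL.val [4] 0 = q0 := by decide +kernel
    rw [h2, hl0] at h
    rw [h]
    simp
  have hpow : ∀ a, 1 ≤ a → a ≤ 4 → ell φ (pw a) = e 5 ^ a := by
    intro a h1 h2
    interval_cases a
    · change ell φ 0 = _
      rw [hl0, pow_one]
    · exact hl1
    · exact hl2
    · exact hl4
  have hpwlt : ∀ a, 1 ≤ a → a ≤ 4 → pw a < 1408 := by
    intro a h1 h2
    interval_cases a <;> decide
  refine ⟨fun c hc => e_mem hc, hell, z2, ?_, by decide, hpwlt, ?_, ?_, ?_⟩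
  · rw [hl0, hlz, hpow 4 (by norm_num) (by norm_num)]
    exact rel_zt
  · intro a b h1 h2 h3 h4
    rw [hpow a h1 h2, hpow b h3 h4, ← pow_add, pwr]
    by_cases h5 : a + b = 5
    · rw [if_pos h5, h5, t5]
      rfl
    · rw [if_neg h5, tup_cons, tup_nil, mul_one, hpow _ (by omega) (by omega)]
      exact pow_eq_pow_mod _ t5
  · intro a b h1 h2 h3 h4
    rw [pwr]
    by_cases h5 : a + b = 5
    · rw [if_pos h5]
      rfl
    · rw [if_neg h5]
      apply allLt_iff.2
      intro x hx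
      simp only [List.mem_singleton] at hx
      rw [hx]
      exact hpwlt _ (by omega) (by omega)
  · intro g hg
    obtain ⟨w, hw, rfl⟩ := kword g hg
    obtain ⟨h1, h2⟩ := hell w hw 0 (by norm_num)
    exact ⟨_, h1, by rw [h2]⟩

end main

/-- The classes. -/
noncomputable def cl (j : Fin 9) : Cl :=
  ([C0.cl, C1.cl, C2.cl, C3.cl, C4.cl, C5.cl, C6.cl, C7.cl, C8.cl] : List Cl).getD j.1 C0.cl

/-- The sizes of the classes. -/
def sz (j : Fin 9) : Nat := ([1,1408,123200,35200,354816,2200,739200,5775,277200] : List Nat).getD j.1 0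

theorem cl_spec (j : Fin 9) : levsOK pt [] (cl j).levs = true ∧ chkCl (cl j) = true ∧
    prodM (cl j).levs * (cl j).size = 177408000 ∧ (cl j).W = Wd j.1 ∧ (cl j).size = sz j := by
  fin_cases j
  · exact ⟨C0.hlev, C0.hchk, C0.hprod, C0.hW, rfl⟩
  · exact ⟨C1.hlev, C1.hchk, C1.hprod, C1.hW, rfl⟩
  · exact ⟨C2.hlev, C2.hchk, C2.hprod, C2.hW, rfl⟩
  · exact ⟨C3.hlev, C3.hchk, C3.hprod, C3.hW, rfl⟩
  · exact ⟨C4.hlev, C4.hchk, C4.hprod, C4.hW, rfl⟩
  · exact ⟨C5.hlev, C5.hchk, C5.hprod, C5.hW, rfl⟩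
  · exact ⟨C6.hlev, C6.hchk, C6.hprod, C6.hW, rfl⟩
  · exact ⟨C7.hlev, C7.hchk, C7.hprod, C7.hW, rfl⟩
  · exact ⟨C8.hlev, C8.hchk, C8.hprod, C8.hW, rfl⟩

theorem sum_sz : ∑ j, sz j = 1539000 := by decide +kernel

section final

variable (φ : PresentedGroup Rel →* Equiv.Perm (Fin pt.n))
  (hval : ∀ l : List Nat, (∀ z ∈ l, z < pt.k) → ∀ i : Fin pt.n, (φ (prodA e l) i).1 = pt.val l i.1)

include hval

theorem index_ub (hK : Nat.card KK ≠ 0 ∧ Nat.card KK ≤ 177408000) :
    KK.index ≠ 0 ∧ KK.index ≤ 1539000 := by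
  have hc := ctx φ hval hK
  have hfK : Finite KK := Nat.finite_of_card_ne_zero hK.1
  let u : Fin 9 → PresentedGroup Rel := fun j => tup (ell φ) (Wd j.1)
  have hl0 : ell φ 0 = e 5 := by
    have := ell_eq φ hval (fun g hg h => hstab φ hval hK g hg h) 1 KK.one_mem 0 (by simp [p0])
    simpa using this
  have hall : ∀ g : PresentedGroup Rel, ∃ j, ∃ k ∈ KK, ∃ h ∈ KK, g = k * u j * h := by
    refine all_of_closed KK (e '' {c | c < K.k}) (Cols.closure_E valid) (e 5) t5 ?_ u 0 rfl ?_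
    · rintro _ ⟨c, hc', rfl⟩
      have hc2 : c < 7 := hc'
      by_cases h5 : c < 5
      · exact Or.inl (e_mem h5)
      · have : c = 5 ∨ c = 6 := by omega
        rcases this with rfl | rfl
        · exact Or.inr (Or.inl rfl)
        · exact Or.inr (Or.inr e6)
    · intro j h hh
      obtain ⟨k', hk', a, ha, b, hb, e1'⟩ := hc.step (cl j) (cl_spec j).2.1 h hh
      rw [(cl_spec j).2.2.2.1, hl0] at e1'
      exact ⟨⟨k', hk'⟩, a, ha, b, hb, e1'⟩
  obtain ⟨h1, h2⟩ := index_le_sum KK u hall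
  refine ⟨h1, le_trans h2 ?_⟩
  rw [← sum_sz]
  apply Finset.sum_le_sum
  intro j _
  obtain ⟨h3, h4, h5, h6, h7⟩ := cl_spec j
  have hfS : Finite (stabU KK (u j)) :=
    Finite.of_injective (fun x => (⟨x.1, stabU_le KK _ x.2⟩ : KK)) (by
      intro a b hab
      apply Subtype.ext
      simpa using congrArg Subtype.val hab)
  have hw : ∀ lv ∈ (cl j).levs, ∀ w ∈ lv.words, prodA e w ∈ stabU KK (u j) := by
    intro lv hlv w hw
    have h8 := cl_words h4 lv hlv w hw
    rw [h6] at h8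
    exact hc.st_mem h8
  have h8 := prodM_le_card hval (stabU KK (u j)) (cl j).levs h3 hw
  rw [← h7]
  have hpos : 0 < prodM (cl j).levs := by
    apply Nat.pos_of_ne_zero
    intro h0
    rw [h0] at h5
    simp at h5
  exact relIndex_le (stabU_le KK _) hK.2 h8 h5 hpos

end final

/-- The index of the subgroup generated by the first three generators. -/
theorem main_index (hgood : pt.Good rels)
    (h3 : Nat.card KK ≠ 0 ∧ Nat.card KK ≤ 3 * 177408000)
    (h1 : cc * cc = 1 → Nat.card KK ≠ 0 ∧ Nat.card KK ≤ 177408000) :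
    KK.index = 1539000 := by
  have hk : pt.k = K.k := by decide
  obtain ⟨φ, hφ⟩ := exists_hom valid hk (fun _ => rfl) hgood hR
  have hval : ∀ l : List Nat, (∀ z ∈ l, z < pt.k) → ∀ i : Fin pt.n, (φ (prodA e l) i).1 = pt.val l i.1 :=
    fun l hl i => phi_prodA_apply hk hgood φ hφ l (fun z hz => by rw [← hk]; exact hl z hz) i
  have hK := h1 (hcc φ hval h3)
  obtain ⟨h4, h5⟩ := index_ub φ hval hK
  have hle : KK ≤ stab0 φ := by
    intro g hg
    exact (mem_stab0 φ g).2 (fix_zero φ hval g hg)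
  have htr : ∀ i : Fin pt.n, ∃ g, φ g 0 = i := by
    intro i
    obtain ⟨l, hl, hv⟩ := hgood.trans i.1 i.2
    refine ⟨prodA e l, Fin.ext ?_⟩
    rw [hval l hl]
    exact hv
  exact index_eq_of_le φ KK hle htr h4 h5

end Cfsg.Agent.Lib.TC.D.HNL.Main
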